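import Mathlib

/-! Two blocks wreathed by a swap: the normaliser of a large 2-subgroup of `T wr 2` is, modulo
scalars, a 2-group, if the same holds for `T`. -/

set_option autoImplicit false
set_option linter.style.haveILetI false

namespace CfsgLib.PronormalPSL

open Matrix

variable {ι : Type*} [Fintype ι] [DecidableEq ι] {F : Type*} [Field F]

/-- Scalar matrices in `GL`. -/
noncomputable def scalarU (ι : Type*) [Fintype ι] [DecidableEq ι] : Fˣ →* GL ι F :=
  Units.map (Matrix.scalar ι).toMonoidHom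

theorem coe_scalarU (l : Fˣ) :
    (scalarU ι l : Matrix ι ι F) = Matrix.diagonal fun _ => (l : F) := rfl

theorem scalarU_comm (l : Fˣ) (g : GL ι F) : scalarU ι l * g = g * scalarU ι l :=
  Units.ext ((Matrix.scalar_commute (l : F) (fun r => Commute.all _ r) (g : Matrix ι ι F)).eq)

theorem scalarU_neg_one : scalarU ι (-1 : Fˣ) = (-1 : GL ι F) := by
  apply Units.ext
  rw [coe_scalarU, Units.val_neg, Units.val_one, Units.val_neg, Units.val_one, ← Matrix.diagonal_one,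
    ← Matrix.diagonal_neg]

theorem scalarU_injective [Nonempty ι] : Function.Injective (scalarU (F := F) ι) := by
  intro a b h
  have h1 := congrArg (fun M : GL ι F => (M : Matrix ι ι F) (Classical.arbitrary ι) (Classical.arbitrary ι)) h
  simp only [coe_scalarU, Matrix.diagonal_apply_eq] at h1
  exact Units.ext h1

/-- `g` is a scalar matrix. -/
def IsScalarU (g : GL ι F) : Prop := ∃ l : Fˣ, g = scalarU ι l

theorem IsScalarU.pow {g : GL ι F} (h : IsScalarU g) (n : ℕ) : IsScalarU (g ^ n) := by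
  obtain ⟨l, rfl⟩ := h
  exact ⟨l ^ n, (map_pow _ _ _).symm⟩

theorem IsScalarU.comm {g : GL ι F} (h : IsScalarU g) (x : GL ι F) : g * x = x * g := by
  obtain ⟨l, rfl⟩ := h
  exact scalarU_comm l x

/-- Block diagonal matrices. -/
noncomputable def blockU : GL ι F × GL ι F →* GL (ι ⊕ ι) F where
  toFun p :=
    { val := Matrix.fromBlocks (p.1 : Matrix ι ι F) 0 0 (p.2 : Matrix ι ι F)
      inv := Matrix.fromBlocks (p.1⁻¹ : GL ι F) 0 0 (p.2⁻¹ : GL ι F)
      val_inv := by simp [Matrix.fromBlocks_multiply, ← Units.val_mul]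
      inv_val := by simp [Matrix.fromBlocks_multiply, ← Units.val_mul] }
  map_one' := Units.ext (by simp)
  map_mul' p q := Units.ext (by simp [Matrix.fromBlocks_multiply])

theorem coe_blockU (p : GL ι F × GL ι F) :
    (blockU p : Matrix (ι ⊕ ι) (ι ⊕ ι) F) =
      Matrix.fromBlocks (p.1 : Matrix ι ι F) 0 0 (p.2 : Matrix ι ι F) := rfl

theorem blockU_injective : Function.Injective (blockU (ι := ι) (F := F)) := by
  intro p q h
  have h1 := congrArg (fun M : GL (ι ⊕ ι) F => (M : Matrix (ι ⊕ ι) (ι ⊕ ι) F)) h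
  simp only [coe_blockU] at h1
  obtain ⟨h2, -, -, h3⟩ := Matrix.fromBlocks_inj.mp h1
  exact Prod.ext (Units.ext h2) (Units.ext h3)

theorem blockU_eq_iff {a b c d : GL ι F} : blockU (a, b) = blockU (c, d) ↔ a = c ∧ b = d :=
  blockU_injective.eq_iff.trans Prod.mk_inj

theorem det_blockU (p : GL ι F × GL ι F) :
    (blockU p : Matrix (ι ⊕ ι) (ι ⊕ ι) F).det =
      (p.1 : Matrix ι ι F).det * (p.2 : Matrix ι ι F).det :=
  Matrix.det_fromBlocks_zero₂₁ _ _ _

theorem scalarU_sum (l : Fˣ) : scalarU (ι ⊕ ι) l = blockU (scalarU ι l, scalarU ι l) := by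
  apply Units.ext
  rw [coe_blockU, coe_scalarU, coe_scalarU, Matrix.fromBlocks_diagonal]
  congr 1
  funext x
  cases x <;> rfl

/-- The signed swap of the two blocks. -/
noncomputable def swapJ : GL (ι ⊕ ι) F where
  val := Matrix.fromBlocks 0 1 (-1) 0
  inv := Matrix.fromBlocks 0 (-1) 1 0
  val_inv := by simp [Matrix.fromBlocks_multiply]
  inv_val := by simp [Matrix.fromBlocks_multiply]

theorem coe_swapJ :
    (swapJ (ι := ι) (F := F) : Matrix (ι ⊕ ι) (ι ⊕ ι) F) = Matrix.fromBlocks 0 1 (-1) 0 := rfl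

theorem det_swapJ : (swapJ (ι := ι) (F := F) : Matrix (ι ⊕ ι) (ι ⊕ ι) F).det = 1 := by
  have h : (Matrix.fromBlocks 0 1 (-1) 0 : Matrix (ι ⊕ ι) (ι ⊕ ι) F) =
      Matrix.fromBlocks 1 1 0 1 * Matrix.fromBlocks 1 0 (-1) 1 * Matrix.fromBlocks 1 1 0 1 := by
    simp [Matrix.fromBlocks_multiply]
  rw [coe_swapJ, h, Matrix.det_mul, Matrix.det_mul, Matrix.det_fromBlocks_zero₂₁,
    Matrix.det_fromBlocks_zero₁₂]
  simp

theorem swapJ_mul_blockU (a b : GL ι F) : swapJ * blockU (a, b) = blockU (b, a) * swapJ := by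
  apply Units.ext
  rw [Units.val_mul, Units.val_mul, coe_swapJ, coe_blockU, coe_blockU]
  simp [Matrix.fromBlocks_multiply]

theorem swapJ_sq : swapJ * swapJ = blockU ((-1 : GL ι F), -1) := by
  apply Units.ext
  rw [Units.val_mul, coe_swapJ, coe_blockU]
  simp [Matrix.fromBlocks_multiply]

theorem blockU_ne_mul_swapJ [Nonempty ι] (p q : GL ι F × GL ι F) : blockU p ≠ blockU q * swapJ := by
  intro h
  have h1 := congrArg (fun M : GL (ι ⊕ ι) F => (M : Matrix (ι ⊕ ι) (ι ⊕ ι) F)) h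
  simp only [Units.val_mul, coe_blockU, coe_swapJ, Matrix.fromBlocks_multiply] at h1
  obtain ⟨h2, -, -, -⟩ := Matrix.fromBlocks_inj.mp h1
  have h3 : (p.1 : Matrix ι ι F) = 0 := by simpa using h2
  exact p.1.ne_zero h3

/-- The wreath product of `T` by the swap. -/
def wr2 (T : Subgroup (GL ι F)) (hT : (-1 : GL ι F) ∈ T) : Subgroup (GL (ι ⊕ ι) F) where
  carrier := {g | ∃ a ∈ T, ∃ b ∈ T, g = blockU (a, b) ∨ g = blockU (a, b) * swapJ}
  one_mem' := ⟨1, T.one_mem, 1, T.one_mem, Or.inl (map_one blockU).symm⟩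
  mul_mem' := by
    rintro x y ⟨a, ha, b, hb, hx⟩ ⟨c, hc, d, hd, hy⟩
    rcases hx with rfl | rfl <;> rcases hy with rfl | rfl
    · exact ⟨_, T.mul_mem ha hc, _, T.mul_mem hb hd, Or.inl (by rw [← map_mul]; rfl)⟩
    · exact ⟨_, T.mul_mem ha hc, _, T.mul_mem hb hd, Or.inr (by rw [← mul_assoc, ← map_mul]; rfl)⟩
    · exact ⟨_, T.mul_mem ha hd, _, T.mul_mem hb hc, Or.inr (by
        rw [mul_assoc, swapJ_mul_blockU, ← mul_assoc, ← map_mul]; rfl)⟩
    · exact ⟨_, T.mul_mem (T.mul_mem ha hd) hT, _, T.mul_mem (T.mul_mem hb hc) hT, Or.inl (by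
        rw [mul_assoc, ← mul_assoc swapJ, swapJ_mul_blockU, mul_assoc, swapJ_sq, ← mul_assoc, ← map_mul,
          ← map_mul]; rfl)⟩
  inv_mem' := by
    rintro x ⟨a, ha, b, hb, rfl | rfl⟩
    · exact ⟨_, T.inv_mem ha, _, T.inv_mem hb, Or.inl (by rw [← map_inv]; rfl)⟩
    · refine ⟨b⁻¹ * (-1), T.mul_mem (T.inv_mem hb) hT, a⁻¹ * (-1), T.mul_mem (T.inv_mem ha) hT,
        Or.inr ?_⟩
      rw [inv_eq_iff_mul_eq_one, mul_assoc, ← mul_assoc swapJ, swapJ_mul_blockU, mul_assoc, swapJ_sq,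
        ← map_mul, ← map_mul, ← map_one blockU]
      congr 1
      ext <;> simp

theorem blockU_mem_wr2 [Nonempty ι] {T : Subgroup (GL ι F)} {hT : (-1 : GL ι F) ∈ T} {a b : GL ι F} :
    blockU (a, b) ∈ wr2 T hT ↔ a ∈ T ∧ b ∈ T := by
  constructor
  · rintro ⟨c, hc, d, hd, h | h⟩
    · obtain ⟨rfl, rfl⟩ := blockU_eq_iff.mp h
      exact ⟨hc, hd⟩
    · exact absurd h (blockU_ne_mul_swapJ _ _)
  · rintro ⟨ha, hb⟩
    exact ⟨a, ha, b, hb, Or.inl rfl⟩

theorem swapJ_mem_wr2 {T : Subgroup (GL ι F)} {hT : (-1 : GL ι F) ∈ T} : swapJ ∈ wr2 T hT :=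
  ⟨1, T.one_mem, 1, T.one_mem, Or.inr (by rw [Prod.mk_one_one, map_one, one_mul])⟩

theorem card_wr2 [Nonempty ι] (T : Subgroup (GL ι F)) (hT : (-1 : GL ι F) ∈ T) :
    Nat.card (wr2 T hT) = 2 * Nat.card T ^ 2 := by
  let f : Bool × T × T → wr2 T hT := fun x =>
    if x.1 then ⟨blockU ((x.2.1 : GL ι F), (x.2.2 : GL ι F)) * swapJ,
        ⟨_, x.2.1.2, _, x.2.2.2, Or.inr rfl⟩⟩
    else ⟨blockU ((x.2.1 : GL ι F), (x.2.2 : GL ι F)), ⟨_, x.2.1.2, _, x.2.2.2, Or.inl rfl⟩⟩
  have hf : Function.Bijective f := by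
    constructor
    · rintro ⟨s, a, b⟩ ⟨s', a', b'⟩ h
      have h' := congrArg Subtype.val h
      cases s <;> cases s' <;> simp only [f, if_true, if_false, Bool.false_eq_true] at h'
      · obtain ⟨h1, h2⟩ := blockU_eq_iff.mp h'
        rw [Subtype.ext h1, Subtype.ext h2]
      · exact absurd h' (blockU_ne_mul_swapJ _ _)
      · exact absurd h'.symm (blockU_ne_mul_swapJ _ _)
      · obtain ⟨h1, h2⟩ := blockU_eq_iff.mp (mul_right_cancel h')
        rw [Subtype.ext h1, Subtype.ext h2]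
    · rintro ⟨x, a, ha, b, hb, hx⟩
      rcases hx with rfl | rfl
      · exact ⟨(false, ⟨a, ha⟩, ⟨b, hb⟩), rfl⟩
      · exact ⟨(true, ⟨a, ha⟩, ⟨b, hb⟩), rfl⟩
  rw [← Nat.card_eq_of_bijective f hf, Nat.card_prod, Nat.card_prod, Nat.card_eq_fintype_card,
    Fintype.card_bool]
  ring

/-- An element commuting with `diag(1, -1)` is block diagonal. -/
theorem exists_blockU_of_commute (h2 : (2 : F) ≠ 0) (g : GL (ι ⊕ ι) F)
    (hg : g * blockU ((1 : GL ι F), (-1 : GL ι F)) = blockU ((1 : GL ι F), -1) * g) : ∃ A B, g = blockU (A, B) := by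
  set M := (g : Matrix (ι ⊕ ι) (ι ⊕ ι) F) with hM
  have h := congrArg (fun M : GL (ι ⊕ ι) F => (M : Matrix (ι ⊕ ι) (ι ⊕ ι) F)) hg
  simp only [Units.val_mul, coe_blockU, Units.val_one, Units.val_neg, ← hM] at h
  rw [← Matrix.fromBlocks_toBlocks M, Matrix.fromBlocks_multiply, Matrix.fromBlocks_multiply] at h
  obtain ⟨-, h12, h21, -⟩ := Matrix.fromBlocks_inj.mp h
  have z12 : M.toBlocks₁₂ = 0 := by
    ext i j
    have h' : -(M.toBlocks₁₂ i j) = M.toBlocks₁₂ i j := by simpa using congrFun (congrFun h12 i) j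
    have : (2 : F) * M.toBlocks₁₂ i j = 0 := by linear_combination -h'
    simpa [h2] using this
  have z21 : M.toBlocks₂₁ = 0 := by
    ext i j
    have h' : M.toBlocks₂₁ i j = -(M.toBlocks₂₁ i j) := by simpa using congrFun (congrFun h21 i) j
    have : (2 : F) * M.toBlocks₂₁ i j = 0 := by linear_combination h'
    simpa [h2] using this
  have hMb : M = Matrix.fromBlocks M.toBlocks₁₁ 0 0 M.toBlocks₂₂ := by
    conv_lhs => rw [← Matrix.fromBlocks_toBlocks M, z12, z21]
  have hdet : IsUnit M.det := (Matrix.isUnit_iff_isUnit_det M).mp g.isUnit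
  rw [hMb, Matrix.det_fromBlocks_zero₂₁] at hdet
  obtain ⟨d1, d2⟩ := IsUnit.mul_iff.mp hdet
  exact ⟨((Matrix.isUnit_iff_isUnit_det _).mpr d1).unit, ((Matrix.isUnit_iff_isUnit_det _).mpr d2).unit,
    Units.ext (by rw [coe_blockU]; exact hMb)⟩

section

variable [Nonempty ι] {T : Subgroup (GL ι F)} {hT : (-1 : GL ι F) ∈ T} {T1 : Subgroup (GL ι F)}
  (hcent : ∀ a : GL ι F, (∀ c ∈ T1, a * c = c * a) → IsScalarU a)
  {X : Subgroup (GL (ι ⊕ ι) F)} (hX1 : ∀ c ∈ T1, blockU (c, 1) ∈ X) (hXJ : swapJ ∈ X)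
  (hXz : blockU (1, (-1 : GL ι F)) ∈ X) (h2 : (2 : F) ≠ 0)

include hcent hX1 hXJ hXz h2

theorem isScalarU_of_centralizes (g : GL (ι ⊕ ι) F) (hg : ∀ x ∈ X, g * x = x * g) : IsScalarU g := by
  obtain ⟨A, B, rfl⟩ := exists_blockU_of_commute h2 g (hg _ hXz)
  obtain ⟨l, rfl⟩ := hcent A fun c hc => by
    have h := hg _ (hX1 c hc)
    rw [← map_mul, ← map_mul] at h
    exact (blockU_eq_iff.mp h).1
  have h := hg _ hXJ
  rw [swapJ_mul_blockU] at h
  obtain ⟨h1, -⟩ := blockU_eq_iff.mp (mul_right_cancel h)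
  exact ⟨l, by rw [scalarU_sum, h1]⟩

theorem conj_z_eq (hc : ∃ c ∈ T1, c * c ≠ 1) (hXS : X ≤ wr2 T hT) {g : GL (ι ⊕ ι) F}
    (hg : ∀ x, x ∈ X ↔ g * x * g⁻¹ ∈ X) :
    g * blockU (1, (-1 : GL ι F)) * g⁻¹ = blockU ((1 : GL ι F), -1) ∨
      g * blockU (1, (-1 : GL ι F)) * g⁻¹ = blockU ((-1 : GL ι F), 1) := by
  set z := blockU ((1 : GL ι F), (-1 : GL ι F)) with hz
  set w := g * z * g⁻¹ with hw
  have hne : (1 : GL ι F) ≠ -1 := by
    intro h
    rw [← scalarU_neg_one, ← map_one (scalarU (F := F) ι)] at h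
    have h1 : (1 : F) = -1 := by
      have := congrArg Units.val (scalarU_injective h)
      simpa using this
    exact h2 (by linear_combination h1)
  have key : ∀ x ∈ X, ∀ y ∈ X, w * x ≠ x * w → w * y ≠ y * w → w * (x * y) = (x * y) * w := by
    have key0 : ∀ x ∈ X, ∀ y ∈ X, z * x ≠ x * z → z * y ≠ y * z → z * (x * y) = (x * y) * z := by
      intro x hx y hy hzx hzy
      have hcz : ∀ a b : GL ι F, z * blockU (a, b) = blockU (a, b) * z := by
        intro a b
        rw [hz, ← map_mul, ← map_mul]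
        congr 1
        ext <;> simp
      obtain ⟨a, -, b, -, rfl | rfl⟩ := hXS hx
      · exact absurd (hcz a b) hzx
      obtain ⟨c, -, d, -, rfl | rfl⟩ := hXS hy
      · exact absurd (hcz c d) hzy
      rw [mul_assoc (blockU (a, b)), ← mul_assoc swapJ, swapJ_mul_blockU, mul_assoc (blockU (d, c)),
        swapJ_sq, ← map_mul, ← map_mul]
      exact hcz _ _
    have hinv : ∀ x ∈ X, g⁻¹ * x * g ∈ X := fun x hx => (hg _).mpr (by
      convert hx using 1; group)
    intro x hx y hy hwx hwy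
    have e : ∀ u : GL (ι ⊕ ι) F, w * u = u * w ↔ z * (g⁻¹ * u * g) = (g⁻¹ * u * g) * z := by
      intro u
      constructor <;> intro h
      · have := congrArg (fun v => g⁻¹ * v * g) h
        simp only [hw] at this
        convert this using 1 <;> group
      · have := congrArg (fun v => g * v * g⁻¹) h
        simp only [hw]
        convert this using 1 <;> group
    rw [ne_eq, e] at hwx hwy
    rw [e]
    have := key0 _ (hinv x hx) _ (hinv y hy) hwx hwy
    convert this using 1 <;> group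
  have hX2 : ∀ c ∈ T1, blockU ((1 : GL ι F), c) ∈ X := by
    intro c hc'
    have h := X.mul_mem (X.mul_mem hXJ (hX1 c hc')) (X.inv_mem hXJ)
    rwa [swapJ_mul_blockU, mul_inv_cancel_right] at h
  obtain ⟨a, -, b, -, hwf | hwf⟩ := hXS ((hg z).mp hXz)
  swap
  · exfalso
    obtain ⟨c, hc1, hc2⟩ := hc
    have hc3 : c ≠ 1 := fun h => hc2 (by rw [h, one_mul])
    have hnc : ∀ e : GL ι F, e ≠ 1 → w * blockU (e, 1) ≠ blockU (e, 1) * w := by
      intro e he h
      rw [hw, hwf, mul_assoc, swapJ_mul_blockU, ← mul_assoc, ← map_mul, ← mul_assoc, ← map_mul] at h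
      obtain ⟨-, h'⟩ := blockU_eq_iff.mp (mul_right_cancel h)
      exact he (by simpa using h')
    have h := key _ (hX1 c hc1) _ (hX1 c hc1) (hnc c hc3) (hnc c hc3)
    rw [← map_mul] at h
    exact hnc (c * c) hc2 (by simpa using h)
  · replace hwf : w = blockU (a, b) := hwf
    have hJ : w * swapJ = swapJ * w → a = b := by
      intro h
      rw [hwf, swapJ_mul_blockU] at h
      exact (blockU_eq_iff.mp (mul_right_cancel h)).1
    have hl : ∀ c d : GL ι F, w * blockU (c, d) = blockU (c, d) * w ↔ a * c = c * a ∧ b * d = d * b := by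
      intro c d
      rw [hwf, ← map_mul, ← map_mul]
      exact blockU_eq_iff
    have hsc : IsScalarU a ∧ IsScalarU b := by
      by_contra hcon
      rw [not_and_or] at hcon
      by_cases hA : IsScalarU a
      · have hB := hcon.resolve_left (not_not.mpr hA)
        obtain ⟨d, hd, hd'⟩ : ∃ d ∈ T1, b * d ≠ d * b := by
          by_contra h; push Not at h; exact hB (hcent b h)
        have hab : a ≠ b := fun h => hB (h ▸ hA)
        have h := key _ (hX2 d hd) _ hXJ (fun h => hd' ((hl _ _).mp h).2) (fun h => hab (hJ h))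
        rw [hwf, mul_assoc (blockU (1, d)), swapJ_mul_blockU, ← mul_assoc, ← map_mul, ← mul_assoc,
          ← map_mul] at h
        obtain ⟨h', -⟩ := blockU_eq_iff.mp (mul_right_cancel h)
        exact hab (by simpa using h')
      · obtain ⟨c, hc', hc''⟩ : ∃ c ∈ T1, a * c ≠ c * a := by
          by_contra h; push Not at h; exact hA (hcent a h)
        by_cases hB : IsScalarU b
        · have hab : a ≠ b := fun h => hA (h.symm ▸ hB)
          have h := key _ (hX1 c hc') _ hXJ (fun h => hc'' ((hl _ _).mp h).1) (fun h => hab (hJ h))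
          rw [hwf, mul_assoc (blockU (c, 1)), swapJ_mul_blockU, ← mul_assoc, ← map_mul, ← mul_assoc,
            ← map_mul] at h
          obtain ⟨-, h'⟩ := blockU_eq_iff.mp (mul_right_cancel h)
          exact hab (by simpa using h'.symm)
        · obtain ⟨d, hd, hd'⟩ : ∃ d ∈ T1, b * d ≠ d * b := by
            by_contra h; push Not at h; exact hB (hcent b h)
          have h := key _ (hX1 c hc') _ (hX2 d hd) (fun h => hc'' ((hl _ _).mp h).1)
            (fun h => hd' ((hl _ _).mp h).2)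
          rw [← map_mul] at h
          simp only [Prod.mk_mul_mk, mul_one, one_mul] at h
          exact hc'' ((hl _ _).mp h).1
    obtain ⟨⟨l, rfl⟩, ⟨μ, rfl⟩⟩ := hsc
    have hsq : w * w = 1 := by
      have hzz : z * z = 1 := by rw [hz, ← map_mul, ← map_one blockU]; congr 1; ext <;> simp
      calc w * w = g * (z * z) * g⁻¹ := by rw [hw]; group
        _ = 1 := by rw [hzz]; group
    rw [hwf, ← map_mul, ← map_one blockU, Prod.mk_mul_mk, ← map_mul, ← map_mul] at hsq
    have hsq' := blockU_injective hsq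
    rw [Prod.ext_iff] at hsq'
    have hunit : ∀ x : Fˣ, scalarU ι (x * x) = (1 : GL ι F) → x = 1 ∨ x = -1 := by
      intro x hx
      rw [← map_one (scalarU (F := F) ι)] at hx
      have h' : (x : F) * x = 1 := by
        have := congrArg Units.val (scalarU_injective hx)
        simpa using this
      rcases mul_self_eq_one_iff.mp h' with h | h
      · exact Or.inl (Units.ext (by simpa using h))
      · exact Or.inr (Units.ext (by simpa using h))
    have hnsc : ¬ ∃ k, scalarU ι l = scalarU ι k ∧ scalarU ι μ = scalarU ι k := by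
      rintro ⟨k, h1, h2'⟩
      have hws : IsScalarU w := ⟨k, by rw [hwf, h1, h2', ← scalarU_sum]⟩
      have hzw : z = w := by
        calc z = g⁻¹ * (w * g) := by rw [hw]; group
          _ = g⁻¹ * (g * w) := by rw [hws.comm g]
          _ = w := by group
      rw [hwf, h1, h2'] at hzw
      obtain ⟨e1, e2⟩ := blockU_eq_iff.mp hzw
      exact hne (e1.trans e2.symm)
    rw [hwf]
    rcases hunit l hsq'.1 with rfl | rfl <;> rcases hunit μ hsq'.2 with rfl | rfl
    · exact absurd ⟨1, rfl, rfl⟩ hnsc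
    · left; rw [map_one, scalarU_neg_one]
    · right; rw [map_one, scalarU_neg_one]
    · exact absurd ⟨-1, rfl, rfl⟩ hnsc

theorem exists_pow_scalar (hc : ∃ c ∈ T1, c * c ≠ 1) (hXS : X ≤ wr2 T hT)
    (hXT : ∀ t ∈ T, blockU (t, t⁻¹) ∈ X) (hX2grp : ∀ x ∈ X, ∃ k : ℕ, x ^ 2 ^ k = 1)
    {Gm : Subgroup (GL ι F)} {G2 : Subgroup (GL (ι ⊕ ι) F)}
    (hG : ∀ a b, blockU (a, b) ∈ G2 → a ∈ Gm ∧ b ∈ Gm)
    (hind : ∀ A ∈ Gm, (∀ t ∈ T, A * t * A⁻¹ ∈ T) → ∃ N : ℕ, IsScalarU (A ^ 2 ^ N))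
    {g : GL (ι ⊕ ι) F} (hgG : g ∈ G2) (hg : ∀ x, x ∈ X ↔ g * x * g⁻¹ ∈ X) :
    ∃ N : ℕ, IsScalarU (g ^ 2 ^ N) := by
  set z := blockU ((1 : GL ι F), (-1 : GL ι F)) with hz
  have hgz : g ^ 2 * z = z * g ^ 2 := by
    rw [← mul_inv_eq_iff_eq_mul, pow_two]
    have hneg : blockU ((-1 : GL ι F), (1 : GL ι F)) = scalarU (ι ⊕ ι) (-1) * z := by
      rw [scalarU_sum, scalarU_neg_one, hz, ← map_mul]
      congr 1
      ext <;> simp
    rcases conj_z_eq hcent hX1 hXJ hXz h2 hc hXS hg with h | h <;> rw [← hz] at h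
    · calc g * g * z * (g * g)⁻¹ = g * (g * z * g⁻¹) * g⁻¹ := by group
        _ = z := by rw [h, h]
    · rw [hneg] at h
      calc g * g * z * (g * g)⁻¹ = g * (g * z * g⁻¹) * g⁻¹ := by group
        _ = g * scalarU (ι ⊕ ι) (-1) * z * g⁻¹ := by rw [h]; group
        _ = scalarU (ι ⊕ ι) (-1) * (g * z * g⁻¹) := by rw [← scalarU_comm]; group
        _ = z := by rw [h, ← mul_assoc, ← map_mul]; simp
  obtain ⟨A, B, hAB⟩ := exists_blockU_of_commute h2 _ hgz
  obtain ⟨hA, hB⟩ := hG A B (hAB ▸ G2.pow_mem hgG 2)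
  have hnorm : ∀ h : GL (ι ⊕ ι) F, h = g ^ 2 → ∀ x ∈ X, h * x * h⁻¹ ∈ X := by
    rintro h rfl x hx
    have := (hg _).mp ((hg x).mp hx)
    rw [show g ^ 2 * x * (g ^ 2)⁻¹ = g * (g * x * g⁻¹) * g⁻¹ by rw [pow_two]; group]
    exact this
  have hT' : ∀ t ∈ T, A * t * A⁻¹ ∈ T ∧ B * t * B⁻¹ ∈ T := by
    intro t ht
    have h1 := hXS (hnorm _ hAB.symm _ (hXT t ht))
    have h2' := hXS (hnorm _ hAB.symm _ (hXT t⁻¹ (T.inv_mem ht)))
    rw [← map_inv, ← map_mul, ← map_mul] at h1 h2'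
    refine ⟨(blockU_mem_wr2.mp h1).1, ?_⟩
    simpa using (blockU_mem_wr2.mp h2').2
  obtain ⟨N, l, hl⟩ := hind A hA fun t ht => (hT' t ht).1
  obtain ⟨M, μ, hμ⟩ := hind B hB fun t ht => (hT' t ht).2
  have hpow : g ^ 2 ^ (N + M + 1) = blockU (scalarU ι (l ^ 2 ^ M), scalarU ι (μ ^ 2 ^ N)) := by
    rw [pow_succ', pow_mul, hAB, ← map_pow]
    congr 1
    ext1 <;> simp only [Prod.pow_fst, Prod.pow_snd]
    · rw [pow_add, pow_mul, hl, map_pow]
    · rw [pow_add, mul_comm, pow_mul, hμ, map_pow]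
  set x := l ^ 2 ^ M
  set y := μ ^ 2 ^ N
  set h := g ^ 2 ^ (N + M + 1) with hh
  have hmem : ∀ (n : ℕ) (u : GL (ι ⊕ ι) F), u ∈ X → g ^ n * u * (g ^ n)⁻¹ ∈ X := by
    intro n
    induction n with
    | zero => intro u hu; simpa using hu
    | succ n ih =>
      intro u hu
      have := (hg _).mp (ih u hu)
      convert this using 1
      rw [pow_succ']; group
  have hk : blockU (scalarU ι (x / y), scalarU ι (y / x)) ∈ X := by
    have := X.mul_mem (hmem _ _ hXJ : h * swapJ * h⁻¹ ∈ X) (X.inv_mem hXJ)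
    convert this using 1
    rw [← hh, hpow, ← map_inv, mul_assoc (blockU _), swapJ_mul_blockU, ← mul_assoc, mul_inv_cancel_right,
      ← map_mul]
    congr 1
    ext1
    · simp [div_eq_mul_inv]
    · simp [div_eq_mul_inv]
  obtain ⟨k, hk'⟩ := hX2grp _ hk
  rw [← map_pow, ← map_one blockU] at hk'
  have h1 : scalarU ι ((x / y) ^ 2 ^ k) = (1 : GL ι F) := by
    rw [map_pow]; exact congrArg Prod.fst (blockU_injective hk')
  rw [← map_one (scalarU (F := F) ι)] at h1
  have h3 : x ^ 2 ^ k = y ^ 2 ^ k := by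
    have := scalarU_injective h1
    rwa [div_pow, div_eq_one] at this
  refine ⟨N + M + 1 + k, x ^ 2 ^ k, ?_⟩
  rw [pow_add, pow_mul, ← hh, hpow, ← map_pow, scalarU_sum]
  congr 1
  ext1
  · simp [map_pow]
  · simp [h3]

end

end CfsgLib.PronormalPSL
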