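import Cfsg.Agent.Lib.PronormalPSL.OverU
import Cfsg.Agent.Lib.AutPSL.Root
import Cfsg.Agent.Lib.SymTwo.Pronormal

/-! In characteristic two every odd index subgroup of `PSL_n(q)` is pronormal. -/

set_option autoImplicit false
set_option linter.style.haveILetI false

namespace CfsgLib.PronormalPSL

open Matrix CfsgLib.GLFlags CfsgLib.AutPSL

variable {n : ℕ} {F : Type*} [Field F]

/-- The normaliser of the unitriangular group consists of triangular matrices. -/
theorem blockTriangular_of_normalizes_uni (g : GL (Fin n) F)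
    (hg : ∀ u : GL (Fin n) F, (u : Matrix (Fin n) (Fin n) F).BlockTriangular id →
      (∀ i, (u : Matrix (Fin n) (Fin n) F) i i = 1) →
      ((g * u * g⁻¹ : GL (Fin n) F) : Matrix (Fin n) (Fin n) F).BlockTriangular id) :
    (g : Matrix (Fin n) (Fin n) F).BlockTriangular id := by
  obtain ⟨p, q, w, hp, hq, rfl⟩ := exists_bruhat g
  have hinv : ∀ b : GL (Fin n) F, (b : Matrix (Fin n) (Fin n) F).BlockTriangular id →
      ((b⁻¹ : GL (Fin n) F) : Matrix (Fin n) (Fin n) F).BlockTriangular id := by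
    intro b hb
    haveI := b.invertible
    rw [Matrix.coe_units_inv]
    exact Matrix.blockTriangular_inv_of_blockTriangular hb
  suffices hw : w = 1 by
    subst hw
    rw [map_one, mul_one, Units.val_mul]
    exact hp.mul hq
  by_contra hw
  obtain ⟨i, j, hij, hwij⟩ : ∃ i j : Fin n, i < j ∧ w j < w i := by
    by_contra h
    push Not at h
    have hm : StrictMono w := fun i j hij => lt_of_le_of_ne (h i j hij)
      (fun e => hij.ne (w.injective e))
    refine hw (Equiv.ext fun x => ?_)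
    have hle : ∀ y ∈ (Finset.univ : Finset (Fin n)), (y : ℕ) ≤ (w y : ℕ) := fun y _ => hm.id_le y
    exact Fin.ext ((Finset.sum_eq_sum_iff_of_le hle).mp
      (Equiv.sum_comp w (fun y : Fin n => (y : ℕ))).symm x (Finset.mem_univ x)).symm
  -- a unitriangular matrix `q⁻¹ x_{ij}(1) q`
  set t := tvU hij.ne (1 : F) with ht
  have htri : (t : Matrix (Fin n) (Fin n) F).BlockTriangular id ∧
      ∀ a, (t : Matrix (Fin n) (Fin n) F) a a = 1 := by
    constructor
    · intro a b hab
      have h1 : a ≠ b := ne_of_gt hab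
      have h2 : ¬ (i = a ∧ j = b) := by rintro ⟨rfl, rfl⟩; exact lt_asymm hij hab
      simp [ht, coe_tvU, h1, Matrix.single_apply, h2]
    · intro a
      have h2 : ¬ (i = a ∧ j = a) := by rintro ⟨rfl, rfl⟩; exact lt_irrefl _ hij
      simp [ht, coe_tvU, Matrix.single_apply, h2]
  have hu1 : ((q⁻¹ * t * q : GL (Fin n) F) : Matrix (Fin n) (Fin n) F).BlockTriangular id := by
    rw [Units.val_mul, Units.val_mul]
    exact ((hinv q hq).mul htri.1).mul hq
  have hu2 : ∀ a, ((q⁻¹ * t * q : GL (Fin n) F) : Matrix (Fin n) (Fin n) F) a a = 1 := by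
    have hdiag : ∀ (X Y : Matrix (Fin n) (Fin n) F), X.BlockTriangular id → Y.BlockTriangular id →
        ∀ a, (X * Y) a a = X a a * Y a a := by
      intro X Y hX hY a
      rw [Matrix.mul_apply, Finset.sum_eq_single a]
      · intro b _ hb
        rcases lt_or_gt_of_ne hb with h | h
        · rw [hX h, zero_mul]
        · rw [hY h, mul_zero]
      · simp
    intro a
    rw [Units.val_mul, Units.val_mul, hdiag _ _ ((hinv q hq).mul htri.1) hq a,
      hdiag _ _ (hinv q hq) htri.1 a, htri.2, mul_one, ← hdiag _ _ (hinv q hq) hq a, Units.inv_mul,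
      Matrix.one_apply_eq]
  have h := hg _ hu1 hu2
  have e1 : p * permGL n F w * q * (q⁻¹ * t * q) * (p * permGL n F w * q)⁻¹ =
      p * (permGL n F w * t * (permGL n F w)⁻¹) * p⁻¹ := by group
  have e2 : permGL n F w * t * (permGL n F w)⁻¹ =
      tvU (fun h => hij.ne (w.injective h)) (1 : F) := by
    rw [mul_inv_eq_iff_eq_mul]
    have h := monU_tvU (1 : Fin n → Fˣ) w hij.ne (1 : F)
    have hd : monU (1 : Fin n → Fˣ) w = permGL n F w := by
      apply Units.ext
      ext a b
      rw [monU_apply, permGL_apply]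
      simp
    rw [hd] at h
    simpa [ht] using h
  rw [e1, e2] at h
  have h3 : ((tvU (fun h => hij.ne (w.injective h)) (1 : F) : GL (Fin n) F) :
      Matrix (Fin n) (Fin n) F).BlockTriangular id := by
    have := ((hinv p hp).mul h).mul hp
    rw [← Units.val_mul, ← Units.val_mul] at this
    have e : ∀ X : GL (Fin n) F, p⁻¹ * (p * X * p⁻¹) * p = X := fun X => by group
    rwa [e] at this
  have h4 := h3 hwij
  simp [coe_tvU, Matrix.one_apply_ne hwij.ne'] at h4

/-- The normaliser of the standard Sylow 2-subgroup normalises every overgroup. -/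
theorem isPronormal_of_char_two [Fintype F] [CharP F 2]
    (H : Subgroup (Matrix.ProjectiveSpecialLinearGroup (Fin n) F)) (hH : Odd H.index) :
    Cfsg.IsPronormal H := by
  haveI : Fact (Nat.Prime 2) := ⟨Nat.prime_two⟩
  obtain ⟨P, hP⟩ := CfsgLib.SymTwo.exists_sylow_le_of_not_dvd_index (p := 2) H
    (by rw [← even_iff_two_dvd, Nat.not_even_iff_odd]; exact hH)
  refine CfsgLib.SymTwo.pronormal_of_sylow_normalizer_le P H hP fun g hg => ?_
  suffices hsub : ∀ h ∈ H, g * h * g⁻¹ ∈ H by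
    refine Subgroup.eq_of_le_of_card_ge (by rintro _ ⟨h, hh, rfl⟩; exact hsub h hh)
      (Subgroup.card_map_of_injective (MulAut.conj g).injective).ge
  intro h hh
  obtain ⟨c, hc⟩ := MulAction.exists_smul_eq (PSLg n F) P (uniTriSylow 2)
  have hmem : ∀ x, x ∈ uniTriPSL n F ↔ c⁻¹ * x * c ∈ P := by
    intro x
    rw [← coe_uniTriSylow 2, ← hc]
    simp [Sylow.coe_subgroup_smul, Subgroup.mem_pointwise_smul_iff_inv_smul_mem, MulAut.smul_def,
      mul_assoc]
    exact Iff.rfl
  -- conjugate the situation so that the Sylow subgroup is the unitriangular one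
  set g' := c * g * c⁻¹ with hg'
  have hg'N : ∀ x ∈ uniTriPSL n F, g' * x * g'⁻¹ ∈ uniTriPSL n F := by
    intro x hx
    rw [hmem] at hx ⊢
    have e : c⁻¹ * (g' * x * g'⁻¹) * c = g * (c⁻¹ * x * c) * g⁻¹ := by rw [hg']; group
    rw [e]
    exact (Subgroup.mem_normalizer_iff.mp hg _).mp hx
  obtain ⟨G', hG'⟩ := QuotientGroup.mk'_surjective (Subgroup.center (SLg n F)) g'
  let tg := (Matrix.SpecialLinearGroup.toGL : SLg n F →* GL (Fin n) F)
  have hlift : ∀ s ∈ uniTri n F, G' * s * G'⁻¹ ∈ uniTri n F := by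
    intro s hs
    obtain ⟨t, ht, htx⟩ := hg'N _ (Subgroup.mem_map_of_mem _ hs)
    obtain ⟨k1, hk1⟩ := uniTri_pow_eq_one 2 ht
    obtain ⟨k2, hk2⟩ := uniTri_pow_eq_one 2 hs
    have := eq_of_mk_eq 2 (A := G' * s * G'⁻¹) (B := t) (k := k1 + k2)
      (by rw [pow_add, mul_comm, pow_mul, conj_pow, hk2, mul_one, mul_inv_cancel, one_pow])
      (by rw [pow_add, pow_mul, hk1, one_pow]) (by
        rw [QuotientGroup.mk_mul, QuotientGroup.mk_mul, QuotientGroup.mk_inv]
        rw [← hG'] at htx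
        exact htx.symm)
    exact this ▸ ht
  have hUsl : ∀ u : GL (Fin n) F, (u : Matrix (Fin n) (Fin n) F).BlockTriangular id →
      (∀ i, (u : Matrix (Fin n) (Fin n) F) i i = 1) → ∃ s ∈ uniTri n F, tg s = u := by
    intro u hu hu1
    have hdet : (u : Matrix (Fin n) (Fin n) F).det = 1 := by
      rw [Matrix.det_of_isUpperTriangular hu]; simp [hu1]
    exact ⟨⟨_, hdet⟩, mem_uniTri.mpr ⟨hu, hu1⟩, Units.ext rfl⟩
  have hupper : (tg G' : Matrix (Fin n) (Fin n) F).BlockTriangular id := by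
    refine blockTriangular_of_normalizes_uni _ fun u hu hu1 => ?_
    obtain ⟨s, hs, rfl⟩ := hUsl u hu hu1
    rw [← map_inv, ← map_mul, ← map_mul]
    exact (mem_uniTri.mp (hlift s hs)).1
  let H' : Subgroup (PSLg n F) := H.map (MulAut.conj c).toMonoidHom
  let K : Subgroup (GL (Fin n) F) := (H'.comap (QuotientGroup.mk' _)).map tg
  have hK : ∀ u : GL (Fin n) F, (u : Matrix (Fin n) (Fin n) F).BlockTriangular id →
      (∀ i, (u : Matrix (Fin n) (Fin n) F) i i = 1) → u ∈ K := by
    intro u hu hu1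
    obtain ⟨s, hs, rfl⟩ := hUsl u hu hu1
    refine Subgroup.mem_map_of_mem _ (Subgroup.mem_comap.mpr ?_)
    refine ⟨c⁻¹ * (QuotientGroup.mk' _ s) * c, hP ((hmem _).mp (Subgroup.mem_map_of_mem _ hs)), ?_⟩
    show c * (c⁻¹ * _ * c) * c⁻¹ = _
    group
  obtain ⟨S, hS⟩ := QuotientGroup.mk'_surjective (Subgroup.center (SLg n F)) (c * h * c⁻¹)
  have hSK : tg S ∈ K := Subgroup.mem_map_of_mem _
    (Subgroup.mem_comap.mpr (by rw [hS]; exact ⟨h, hh, rfl⟩))
  obtain ⟨T, hT, hTeq⟩ := upper_conj_mem K hK _ hupper hSK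
  rw [← map_inv, ← map_mul, ← map_mul] at hTeq
  have hTS := Matrix.SpecialLinearGroup.toGL_injective hTeq
  have hT' := Subgroup.mem_comap.mp hT
  rw [hTS, map_mul, map_mul, map_inv, hG', hS] at hT'
  obtain ⟨y, hy, hyeq⟩ := hT'
  replace hyeq : c * y * c⁻¹ = g' * (c * h * c⁻¹) * g'⁻¹ := hyeq
  have : y = g * h * g⁻¹ := by
    calc y = c⁻¹ * (c * y * c⁻¹) * c := by group
      _ = _ := by rw [hyeq, hg']; group
  exact this ▸ hy

end CfsgLib.PronormalPSL
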