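import Cfsg.Agent.Lib.PronormalPSL.Block

/-! Sylow 2-subgroups of `GL_{2^k}` in odd characteristic: induction step and base cases. -/

set_option autoImplicit false
set_option linter.style.haveILetI false

namespace CfsgLib.PronormalPSL

open Matrix

/-- `GL` as an abbreviation for determinant one. -/
def DetOne {ι F : Type*} [Fintype ι] [DecidableEq ι] [Field F] (g : GL ι F) : Prop :=
  (g : Matrix ι ι F).det = 1

/-- The determinant one elements. -/
def detKer (ι F : Type*) [Fintype ι] [DecidableEq ι] [Field F] : Subgroup (GL ι F) where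
  carrier := {g | DetOne g}
  one_mem' := by simp [DetOne]
  mul_mem' := by
    intro a b ha hb
    simp_all [DetOne, Units.val_mul, Matrix.det_mul]
  inv_mem' := by
    intro a ha
    have h : ((a⁻¹ * a : GL ι F) : Matrix ι ι F).det = 1 := by simp
    rw [Units.val_mul, Matrix.det_mul] at h
    simp only [Set.mem_setOf_eq, DetOne] at ha ⊢
    rwa [ha, mul_one] at h

theorem mem_detKer {ι F : Type*} [Fintype ι] [DecidableEq ι] [Field F] {g : GL ι F} :
    g ∈ detKer ι F ↔ (g : Matrix ι ι F).det = 1 := Iff.rfl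

theorem det_conj {ι F : Type*} [Fintype ι] [DecidableEq ι] [Field F] (g x : GL ι F) :
    ((g * x * g⁻¹ : GL ι F) : Matrix ι ι F).det = (x : Matrix ι ι F).det := by
  rw [Units.val_mul, Units.val_mul]
  exact Matrix.det_units_conj g _

/-- A subgroup mapped into itself by conjugation is normalised. -/
theorem conj_mem_iff {G : Type*} [Group G] [Finite G] {T : Subgroup G} {g : G}
    (h : ∀ t ∈ T, g * t * g⁻¹ ∈ T) (x : G) : x ∈ T ↔ g * x * g⁻¹ ∈ T := by
  refine ⟨h x, fun hx => ?_⟩
  let f : T → T := fun t => ⟨g * t * g⁻¹, h _ t.2⟩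
  have hf : Function.Injective f := fun a b hab => Subtype.ext (by simpa [f] using hab)
  obtain ⟨t, ht⟩ := (Finite.injective_iff_surjective.mp hf) ⟨_, hx⟩
  have : g * t * g⁻¹ = g * x * g⁻¹ := congrArg Subtype.val ht
  have e : (t : G) = x := by simpa using this
  exact e ▸ t.2

/-- The 2-elements of a commutative subgroup. -/
theorem exists_two_part {G : Type*} [Group G] [Finite G] (R : Subgroup G)
    (hcomm : ∀ a ∈ R, ∀ b ∈ R, a * b = b * a) :
    ∃ C : Subgroup G, (∀ x, x ∈ C ↔ x ∈ R ∧ ∃ N : ℕ, x ^ 2 ^ N = 1) ∧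
      Nat.card C = 2 ^ (Nat.card R).factorization 2 := by
  let C : Subgroup G :=
    { carrier := {x | x ∈ R ∧ ∃ N : ℕ, x ^ 2 ^ N = 1}
      one_mem' := ⟨R.one_mem, 0, by simp⟩
      mul_mem' := by
        rintro a b ⟨ha, N, hN⟩ ⟨hb, M, hM⟩
        refine ⟨R.mul_mem ha hb, N + M, ?_⟩
        rw [Commute.mul_pow (hcomm a ha b hb) _]
        conv_lhs => rw [pow_add, pow_mul, hN, one_pow, one_mul, mul_comm, pow_mul, hM, one_pow]
      inv_mem' := by
        rintro a ⟨ha, N, hN⟩
        exact ⟨R.inv_mem ha, N, by rw [inv_pow, hN, inv_one]⟩ }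
  refine ⟨C, fun x => Iff.rfl, ?_⟩
  have hCR : C ≤ R := fun x hx => hx.1
  let S : Sylow 2 R := default
  have hp : IsPGroup 2 (C.subgroupOf R) := by
    rintro ⟨⟨x, hxR⟩, hx⟩
    obtain ⟨-, N, hN⟩ := (Subgroup.mem_subgroupOf.mp hx : x ∈ C)
    exact ⟨N, Subtype.ext (Subtype.ext (by simpa using hN))⟩
  have hle : (S : Subgroup R) ≤ C.subgroupOf R := by
    intro x hx
    refine Subgroup.mem_subgroupOf.mpr ⟨x.2, ?_⟩
    obtain ⟨N, hN⟩ := S.isPGroup' ⟨x, hx⟩
    exact ⟨N, by simpa using congrArg (fun u : (S : Subgroup R) => ((u : R) : G)) hN⟩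
  have heq : C.subgroupOf R = S := S.is_maximal' hp hle
  rw [← Nat.card_congr (Subgroup.subgroupOfEquivOfLe hCR).toEquiv, heq]
  exact S.card_eq_multiplicity

theorem exists_pow_two_eq_one_of_card {G : Type*} [Group G] {T : Subgroup G} {v : ℕ}
    (h : Nat.card T = 2 ^ v) {x : G} (hx : x ∈ T) : ∃ k : ℕ, x ^ 2 ^ k = 1 := by
  refine ⟨v, ?_⟩
  have h1 : (⟨x, hx⟩ : T) ^ Nat.card T = 1 := pow_card_eq_one'
  rw [h] at h1
  simpa using congrArg Subtype.val h1

section

variable (F : Type*) [Field F] [Fintype F]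

/-- Induction hypothesis for a block size. -/
def Good (ι : Type) [Fintype ι] [DecidableEq ι] : Prop :=
  ∃ T : Subgroup (GL ι F), (-1 : GL ι F) ∈ T ∧
    Nat.card T = 2 ^ (Nat.card (GL ι F)).factorization 2 ∧
    (∀ a : GL ι F, (∀ c ∈ T ⊓ detKer ι F, a * c = c * a) → IsScalarU a) ∧
    (∃ c ∈ T ⊓ detKer ι F, c * c ≠ 1) ∧
    (∀ A : GL ι F, (∀ t ∈ T, A * t * A⁻¹ ∈ T) → ∃ N : ℕ, IsScalarU (A ^ 2 ^ N))

/-- The conclusion at a given size. -/
def Strong (ι : Type) [Fintype ι] [DecidableEq ι] : Prop :=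
  ∃ T : Subgroup (GL ι F), Nat.card T = 2 ^ (Nat.card (GL ι F)).factorization 2 ∧
    ∀ g : GL ι F, (∀ x ∈ T ⊓ detKer ι F, g * x * g⁻¹ ∈ T ⊓ detKer ι F) →
      ∃ N : ℕ, IsScalarU (g ^ 2 ^ N)

variable {F}

theorem good_step {ι : Type} [Fintype ι] [DecidableEq ι] [Nonempty ι] (h2 : (2 : F) ≠ 0)
    (hev : Even (Fintype.card ι)) (hG : Good F ι)
    (hcard : (Nat.card (GL (ι ⊕ ι) F)).factorization 2 =
      1 + 2 * (Nat.card (GL ι F)).factorization 2) :
    Good F (ι ⊕ ι) ∧ Strong F (ι ⊕ ι) := by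
  obtain ⟨T, hT, hTc, hTcent, ⟨c, hc, hcc⟩, hTN⟩ := hG
  set S := wr2 T hT with hS
  set X := S ⊓ detKer (ι ⊕ ι) F with hX
  have hSc : Nat.card S = 2 ^ (Nat.card (GL (ι ⊕ ι) F)).factorization 2 := by
    rw [hS, card_wr2, hTc, hcard, pow_add, pow_one, ← pow_mul, mul_comm _ 2]
  have hz : (((-1 : GL ι F)) : Matrix ι ι F).det = 1 := by
    rw [Units.val_neg, Units.val_one, Matrix.det_neg, Matrix.det_one, mul_one, hev.neg_one_pow]
  have hX1 : ∀ c ∈ T ⊓ detKer ι F, blockU (c, 1) ∈ X := by
    intro c hc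
    refine ⟨blockU_mem_wr2.mpr ⟨hc.1, T.one_mem⟩, ?_⟩
    show DetOne _
    rw [DetOne, det_blockU]
    simp [(mem_detKer.mp hc.2)]
  have hXJ : swapJ ∈ X := ⟨swapJ_mem_wr2, det_swapJ⟩
  have hXz : blockU (1, (-1 : GL ι F)) ∈ X := by
    refine ⟨blockU_mem_wr2.mpr ⟨T.one_mem, hT⟩, ?_⟩
    show DetOne _
    rw [DetOne, det_blockU, hz]
    simp
  have hXT : ∀ t ∈ T, blockU (t, t⁻¹) ∈ X := by
    intro t ht
    refine ⟨blockU_mem_wr2.mpr ⟨ht, T.inv_mem ht⟩, ?_⟩
    show DetOne _
    rw [DetOne, det_blockU, ← Matrix.det_mul, ← Units.val_mul, mul_inv_cancel]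
    simp
  have hstrong : ∀ g : GL (ι ⊕ ι) F, (∀ x ∈ X, g * x * g⁻¹ ∈ X) →
      ∃ N : ℕ, IsScalarU (g ^ 2 ^ N) := by
    intro g hg
    exact exists_pow_scalar (T1 := T ⊓ detKer ι F) hTcent hX1 hXJ hXz h2 ⟨c, hc, hcc⟩
      (inf_le_left : X ≤ S) hXT (fun x hx => exists_pow_two_eq_one_of_card hSc hx.1)
      (Gm := ⊤) (G2 := ⊤) (fun a b _ => ⟨trivial, trivial⟩) (fun A _ hA => hTN A hA)
      (g := g) trivial (fun x => conj_mem_iff hg x)
  refine ⟨⟨S, ?_, hSc, ?_, ⟨blockU (c, 1), hX1 c hc, ?_⟩, ?_⟩, ⟨S, hSc, hstrong⟩⟩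
  · rw [← scalarU_neg_one, scalarU_sum, scalarU_neg_one]
    exact blockU_mem_wr2.mpr ⟨hT, hT⟩
  · exact isScalarU_of_centralizes (T1 := T ⊓ detKer ι F) hTcent hX1 hXJ hXz h2
  · intro h
    rw [← map_mul, ← map_one blockU] at h
    exact hcc (congrArg Prod.fst (blockU_injective h))
  · intro A hA
    refine hstrong A fun x hx => ⟨hA x hx.1, ?_⟩
    show DetOne _
    rw [DetOne, det_conj]
    exact hx.2

omit [Fintype F] in
theorem isScalarU_unique {ι : Type} [Fintype ι] [DecidableEq ι] [Unique ι] (a : GL ι F) :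
    IsScalarU a := by
  have h : (a : Matrix ι ι F) default default ≠ 0 := by
    intro h
    have := (Matrix.GeneralLinearGroup.det a).ne_zero
    rw [Matrix.GeneralLinearGroup.val_det_apply, Matrix.det_unique, h] at this
    exact this rfl
  refine ⟨Units.mk0 _ h, Units.ext ?_⟩
  rw [coe_scalarU]
  ext i j
  rw [Unique.eq_default i, Unique.eq_default j]
  simp

/-- The base case when `q ≡ 1 (mod 4)`. -/
theorem good_two_of_one (hq : Fintype.card F % 4 = 1) (h2 : (2 : F) ≠ 0)
    (hcard : (Nat.card (GL (Fin 1 ⊕ Fin 1) F)).factorization 2 =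
      1 + 2 * (Nat.card (GL (Fin 1) F)).factorization 2) :
    Good F (Fin 1 ⊕ Fin 1) := by
  obtain ⟨T, hTmem, hTc⟩ := exists_two_part (⊤ : Subgroup (GL (Fin 1) F)) (fun a _ b _ =>
    (isScalarU_unique a).comm b)
  rw [Subgroup.card_top] at hTc
  have hT : (-1 : GL (Fin 1) F) ∈ T := (hTmem _).mpr ⟨trivial, 1, by simp⟩
  obtain ⟨i, hi⟩ : IsSquare (-1 : F) := FiniteField.isSquare_neg_one_iff.mpr (by omega)
  have hi0 : i ≠ 0 := by
    rintro rfl
    simp at hi
  set I : GL (Fin 1) F := scalarU (Fin 1) (Units.mk0 i hi0) with hIdef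
  have hII : I * I = -1 := by
    rw [hIdef, ← map_mul, ← scalarU_neg_one]
    congr 1
    exact Units.ext (by simpa using hi.symm)
  have hne1 : (-1 : GL (Fin 1) F) ≠ 1 := by
    intro h
    rw [← scalarU_neg_one, ← map_one (scalarU (F := F) (Fin 1))] at h
    have h1 : (-1 : F) = 1 := by simpa using congrArg Units.val (scalarU_injective h)
    exact h2 (by linear_combination -h1)
  have hI : I ∈ T := (hTmem _).mpr ⟨trivial, 2, by
    rw [show (2 : ℕ) ^ 2 = 2 * 2 by norm_num, pow_mul, pow_two, pow_two, hII, neg_mul_neg, one_mul]⟩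
  set S := wr2 T hT with hS
  have hSc : Nat.card S = 2 ^ (Nat.card (GL (Fin 1 ⊕ Fin 1) F)).factorization 2 := by
    rw [hS, card_wr2, hTc, hcard, pow_add, pow_one, ← pow_mul, mul_comm _ 2]
  have hcentT : ∀ a : GL (Fin 1) F, (∀ c ∈ T, a * c = c * a) → IsScalarU a :=
    fun a _ => isScalarU_unique a
  have hJS : swapJ ∈ S := swapJ_mem_wr2
  refine ⟨S, ?_, hSc, ?_, ⟨swapJ, ⟨hJS, det_swapJ⟩, ?_⟩, ?_⟩
  · rw [← scalarU_neg_one, scalarU_sum, scalarU_neg_one]
    exact blockU_mem_wr2.mpr ⟨hT, hT⟩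
  · intro a ha
    have hd : blockU (I, I⁻¹) ∈ S ⊓ detKer _ F := by
      refine ⟨blockU_mem_wr2.mpr ⟨hI, T.inv_mem hI⟩, ?_⟩
      show DetOne _
      rw [DetOne, det_blockU, ← Matrix.det_mul, ← Units.val_mul, mul_inv_cancel]
      simp
    have h1 := ha _ hd
    have e : blockU (I, I⁻¹) = scalarU _ (Units.mk0 i hi0) * blockU ((1 : GL (Fin 1) F), -1) := by
      rw [scalarU_sum, ← map_mul, Prod.mk_mul_mk, mul_one, ← hIdef]
      congr 2
      rw [inv_eq_iff_mul_eq_one, ← mul_assoc, hII, neg_mul_neg, one_mul]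
    rw [e, ← mul_assoc, ← scalarU_comm, mul_assoc, mul_assoc] at h1
    obtain ⟨A, B, rfl⟩ := exists_blockU_of_commute h2 a (mul_left_cancel h1)
    have h3 := ha _ ⟨hJS, det_swapJ⟩
    rw [swapJ_mul_blockU] at h3
    obtain ⟨e1, -⟩ := blockU_eq_iff.mp (mul_right_cancel h3)
    obtain ⟨l, rfl⟩ := isScalarU_unique A
    exact ⟨l, by rw [scalarU_sum, e1]⟩
  · rw [swapJ_sq, ← map_one blockU]
    intro h
    exact hne1 (congrArg Prod.fst (blockU_injective h))
  · intro A hA
    exact exists_pow_scalar (T1 := T) hcentT (X := S)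
      (fun c hc => blockU_mem_wr2.mpr ⟨hc, T.one_mem⟩) hJS (blockU_mem_wr2.mpr ⟨T.one_mem, hT⟩) h2
      ⟨I, hI, by rw [hII]; exact hne1⟩ le_rfl (fun t ht => blockU_mem_wr2.mpr ⟨ht, T.inv_mem ht⟩)
      (fun x hx => exists_pow_two_eq_one_of_card hSc hx) (Gm := ⊤) (G2 := ⊤)
      (fun a b _ => ⟨trivial, trivial⟩) (fun B _ _ => ⟨0, isScalarU_unique _⟩) (g := A) trivial
      (fun x => conj_mem_iff hA x)

/-- The rotation matrix `a + b J`. -/
def rot (a b : F) : Matrix (Fin 2) (Fin 2) F := !![a, -b; b, a]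

/-- The base case when `q ≡ 3 (mod 4)`. -/
theorem good_two_of_three (hq : Fintype.card F % 4 = 3)
    (hv : (Nat.card (GL (Fin 2) F)).factorization 2 =
      1 + (Fintype.card F ^ 2 - 1).factorization 2) :
    Good F (Fin 2) := by
  classical
  have h2 : (2 : F) ≠ 0 := Ring.two_ne_zero fun h => by
    have : CharP F 2 := ringChar.of_eq h
    have := FiniteField.even_card_of_char_two h
    omega
  have hns : ∀ x : F, x * x ≠ -1 := fun x hx => (FiniteField.isSquare_neg_one_iff.mp ⟨x, hx.symm⟩) hq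
  have hnorm : ∀ a b : F, a * a + b * b = 0 → a = 0 ∧ b = 0 := by
    intro a b h
    rcases eq_or_ne b 0 with rfl | hb
    · exact ⟨by simpa using h, rfl⟩
    · exact absurd (show (a / b) * (a / b) = -1 by field_simp; linear_combination h) (hns _)
  let J : GL (Fin 2) F := Matrix.GeneralLinearGroup.mkOfDetNeZero (rot 0 1)
    (by simp [rot, Matrix.det_fin_two])
  let s : GL (Fin 2) F := Matrix.GeneralLinearGroup.mkOfDetNeZero !![1, 0; 0, -1]
    (by simp [Matrix.det_fin_two])
  have hJv : (J : Matrix (Fin 2) (Fin 2) F) = rot 0 1 := rfl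
  have hsv : (s : Matrix (Fin 2) (Fin 2) F) = !![1, 0; 0, -1] := rfl
  set R := Subgroup.centralizer ({J} : Set (GL (Fin 2) F)) with hRdef
  have hmemR : ∀ g : GL (Fin 2) F, g ∈ R ↔ ∃ a b, (g : Matrix (Fin 2) (Fin 2) F) = rot a b := by
    intro g
    rw [hRdef, Subgroup.mem_centralizer_singleton_iff]
    constructor
    · intro h
      have h' := congrArg (fun M : GL (Fin 2) F => (M : Matrix (Fin 2) (Fin 2) F)) h
      simp only [Units.val_mul, hJv] at h'
      have e00 := congrFun (congrFun h' 0) 0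
      have e01 := congrFun (congrFun h' 0) 1
      simp [rot, Matrix.mul_apply, Fin.sum_univ_two] at e00 e01
      refine ⟨(g : Matrix (Fin 2) (Fin 2) F) 0 0, (g : Matrix (Fin 2) (Fin 2) F) 1 0, ?_⟩
      ext i j
      fin_cases i <;> fin_cases j <;> simp [rot] <;> grind
    · rintro ⟨a, b, h⟩
      apply Units.ext
      rw [Units.val_mul, Units.val_mul, hJv, h]
      ext i j
      fin_cases i <;> fin_cases j <;> simp [rot, Matrix.mul_apply, Fin.sum_univ_two]
  have hcomm : ∀ a ∈ R, ∀ b ∈ R, a * b = b * a := by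
    intro x hx y hy
    obtain ⟨a, b, h⟩ := (hmemR x).mp hx
    obtain ⟨c, d, h'⟩ := (hmemR y).mp hy
    apply Units.ext
    rw [Units.val_mul, Units.val_mul, h, h']
    ext i j
    fin_cases i <;> fin_cases j <;> simp [rot, Matrix.mul_apply, Fin.sum_univ_two] <;> ring
  have hRcard : Nat.card R = Fintype.card F ^ 2 - 1 := by
    let f : {p : F × F // p ≠ 0} → R := fun p =>
      ⟨Matrix.GeneralLinearGroup.mkOfDetNeZero (rot p.1.1 p.1.2) (by
        intro h
        simp [rot, Matrix.det_fin_two] at h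
        obtain ⟨h1, h2'⟩ := hnorm _ _ h
        exact p.2 (Prod.ext h1 h2')), (hmemR _).mpr ⟨_, _, rfl⟩⟩
    have hf : Function.Bijective f := by
      constructor
      · intro p p' h
        have h' : rot p.1.1 p.1.2 = rot p'.1.1 p'.1.2 :=
          congrArg (fun M : R => ((M : GL (Fin 2) F) : Matrix (Fin 2) (Fin 2) F)) h
        apply Subtype.ext
        exact Prod.ext (by simpa [rot] using congrFun (congrFun h' 0) 0)
          (by simpa [rot] using congrFun (congrFun h' 1) 0)
      · rintro ⟨g, hg⟩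
        obtain ⟨a, b, h⟩ := (hmemR g).mp hg
        refine ⟨⟨(a, b), ?_⟩, Subtype.ext (Units.ext h.symm)⟩
        intro h0
        obtain ⟨rfl, rfl⟩ := Prod.mk_eq_zero.mp h0
        exact g.ne_zero (h.trans (by ext i j; fin_cases i <;> fin_cases j <;> simp [rot]))
    rw [← Nat.card_eq_of_bijective f hf, Nat.card_eq_fintype_card, Fintype.card_subtype_compl,
      Fintype.card_prod, Fintype.card_subtype_eq, pow_two]
  obtain ⟨C, hC, hCc⟩ := exists_two_part R hcomm
  rw [hRcard] at hCc
  have hss : s * s = 1 := Units.ext (by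
    rw [Units.val_mul, hsv]; ext i j; fin_cases i <;> fin_cases j <;> simp [Matrix.mul_apply, Fin.sum_univ_two])
  have hsinv : s⁻¹ = s := inv_eq_of_mul_eq_one_right hss
  have hsR : s ∉ R := by
    intro h
    obtain ⟨a, b, h'⟩ := (hmemR s).mp h
    rw [hsv] at h'
    have e0 : (1 : F) = a := by simpa [rot] using congrFun (congrFun h' 0) 0
    have e1 : (-1 : F) = a := by simpa [rot] using congrFun (congrFun h' 1) 1
    exact h2 (by linear_combination e0 - e1)
  have hsconj : ∀ x ∈ C, s * x * s⁻¹ ∈ C := by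
    intro x hx
    obtain ⟨hxR, N, hN⟩ := (hC x).mp hx
    refine (hC _).mpr ⟨?_, N, by rw [conj_pow, hN, mul_one, mul_inv_cancel]⟩
    obtain ⟨a, b, h⟩ := (hmemR x).mp hxR
    refine (hmemR _).mpr ⟨a, -b, ?_⟩
    rw [hsinv, Units.val_mul, Units.val_mul, hsv, h]
    ext i j; fin_cases i <;> fin_cases j <;> simp [rot, Matrix.mul_apply, Fin.sum_univ_two]
  have hswap : ∀ x ∈ C, ∃ y ∈ C, s * x = y * s := fun x hx => ⟨_, hsconj x hx, by group⟩
  let T : Subgroup (GL (Fin 2) F) :=
    { carrier := {g | g ∈ C ∨ g * s ∈ C}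
      one_mem' := Or.inl C.one_mem
      mul_mem' := by
        rintro a b (ha | ha) (hb | hb)
        · exact Or.inl (C.mul_mem ha hb)
        · exact Or.inr (by rw [mul_assoc]; exact C.mul_mem ha hb)
        · refine Or.inr ?_
          have := C.mul_mem ha (hsconj b hb)
          rw [hsinv] at this
          convert this using 1
          calc a * b * s = a * (s * s) * b * s := by rw [hss, mul_one]
            _ = a * s * (s * b * s) := by group
        · refine Or.inl ?_
          have := C.mul_mem ha (hsconj _ hb)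
          rw [hsinv] at this
          convert this using 1
          calc a * b = a * (s * s) * b * (s * s) := by rw [hss, mul_one, mul_one]
            _ = a * s * (s * (b * s) * s) := by group
      inv_mem' := by
        rintro a (ha | ha)
        · exact Or.inl (C.inv_mem ha)
        · refine Or.inr ?_
          have := hsconj _ (C.inv_mem ha)
          convert this using 1
          rw [_root_.mul_inv_rev]
          rw [hsinv, ← mul_assoc, hss, one_mul] }
  have hTmem : ∀ g, g ∈ T ↔ g ∈ C ∨ g * s ∈ C := fun g => Iff.rfl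
  have hCR : ∀ g ∈ C, g ∈ R := fun g hg => ((hC g).mp hg).1
  have hTR : ∀ g ∈ T, g ∈ R → g ∈ C := by
    rintro g (hg | hg) hgR
    · exact hg
    · exact absurd (by simpa using R.mul_mem (R.inv_mem hgR) (hCR _ hg) : s ∈ R) hsR
  have hTc : Nat.card T = 2 ^ (Nat.card (GL (Fin 2) F)).factorization 2 := by
    let f : Bool × C → T := fun x =>
      if x.1 then ⟨(x.2 : GL (Fin 2) F) * s, Or.inr (by rw [mul_assoc, hss, mul_one]; exact x.2.2)⟩
      else ⟨x.2, Or.inl x.2.2⟩
    have hf : Function.Bijective f := by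
      constructor
      · rintro ⟨e, a⟩ ⟨e', a'⟩ h
        have h' := congrArg Subtype.val h
        cases e <;> cases e' <;> simp only [f, if_true, if_false, Bool.false_eq_true] at h'
        · rw [Subtype.ext h']
        · exact absurd (by
            have := R.mul_mem (R.inv_mem (hCR _ a'.2)) (hCR _ a.2)
            rwa [h', inv_mul_cancel_left] at this) hsR
        · exact absurd (by
            have := R.mul_mem (R.inv_mem (hCR _ a.2)) (hCR _ a'.2)
            rwa [← h', inv_mul_cancel_left] at this) hsR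
        · rw [Subtype.ext (mul_right_cancel h')]
      · rintro ⟨g, hg | hg⟩
        · exact ⟨(false, ⟨g, hg⟩), rfl⟩
        · exact ⟨(true, ⟨g * s, hg⟩), Subtype.ext (by simp [f, mul_assoc, hss])⟩
    rw [← Nat.card_eq_of_bijective f hf, Nat.card_prod, hCc, Nat.card_eq_fintype_card,
      Fintype.card_bool, hv, pow_add, pow_one]
  have hJ2 : J * J = -1 := Units.ext (by
    rw [Units.val_mul, hJv, Units.val_neg, Units.val_one]
    ext i j; fin_cases i <;> fin_cases j <;> simp [rot, Matrix.mul_apply, Fin.sum_univ_two])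
  have hne1 : (-1 : GL (Fin 2) F) ≠ 1 := by
    intro h
    have h' : ((-1 : GL (Fin 2) F) : Matrix (Fin 2) (Fin 2) F) 0 0 =
        ((1 : GL (Fin 2) F) : Matrix (Fin 2) (Fin 2) F) 0 0 := by rw [h]
    simp at h'
    exact h2 (by linear_combination -h')
  have hJC : J ∈ C := (hC J).mpr ⟨(hmemR J).mpr ⟨0, 1, hJv⟩, 2, by
    rw [show (2 : ℕ) ^ 2 = 2 * 2 by norm_num, pow_mul, pow_two, pow_two, hJ2, neg_mul_neg, one_mul]⟩
  have hm1C : (-1 : GL (Fin 2) F) ∈ C := hJ2 ▸ C.mul_mem hJC hJC
  have hsgn : ∀ x : F, (∃ N : ℕ, x ^ 2 ^ N = 1) → x = 1 ∨ x = -1 := by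
    rintro x ⟨N, hN⟩
    induction N generalizing x with
    | zero => exact Or.inl (by simpa using hN)
    | succ N ih =>
      rw [pow_succ', pow_mul] at hN
      rcases ih _ hN with h | h
      · exact sq_eq_one_iff.mp h
      · exact absurd (by rw [← pow_two]; exact h) (hns x)
  have hrot_scalar : ∀ g ∈ R, ∀ a b, (g : Matrix (Fin 2) (Fin 2) F) = rot a b → b = 0 → IsScalarU g := by
    intro g _ a b h hb
    subst hb
    have ha : a ≠ 0 := by
      rintro rfl
      exact g.ne_zero (h.trans (by ext i j; fin_cases i <;> fin_cases j <;> simp [rot]))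
    refine ⟨Units.mk0 a ha, Units.ext ?_⟩
    rw [coe_scalarU, h]
    ext i j; fin_cases i <;> fin_cases j <;> simp [rot]
  obtain ⟨c, hcC, hc⟩ : ∃ c ∈ C, ¬ IsScalarU (c * c) := by
    by_contra hcon
    push Not at hcon
    have hsub : (C : Set (GL (Fin 2) F)) ⊆
        ({1, -1, J, -J} : Finset (GL (Fin 2) F)) := by
      intro x hx
      obtain ⟨hxR, N, hN⟩ := (hC x).mp hx
      obtain ⟨a, b, h⟩ := (hmemR x).mp hxR
      obtain ⟨l, hl⟩ := hcon x hx
      have h' := congrArg (fun M : GL (Fin 2) F => (M : Matrix (Fin 2) (Fin 2) F) 1 0) hl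
      simp [Units.val_mul, h, coe_scalarU, rot, Matrix.mul_apply, Fin.sum_univ_two] at h'
      have hab : a = 0 ∨ b = 0 := by
        have : (2 : F) * (a * b) = 0 := by linear_combination h'
        simpa [h2] using this
      have key : ∀ y : GL (Fin 2) F, y ∈ C → ∀ e : F,
          (y : Matrix (Fin 2) (Fin 2) F) = rot e 0 → y = 1 ∨ y = -1 := by
        intro y hy e he
        obtain ⟨-, M, hM⟩ := (hC y).mp hy
        obtain ⟨l, hl⟩ := hrot_scalar y (hCR y hy) e 0 he rfl
        have hle : (l : F) = e := by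
          have := congrArg (fun M : GL (Fin 2) F => (M : Matrix (Fin 2) (Fin 2) F) 0 0) hl
          simpa [he, coe_scalarU, rot] using this.symm
        rw [hl, ← map_pow, ← map_one (scalarU (F := F) (Fin 2))] at hM
        have hl1 : (l : F) ^ 2 ^ M = 1 := by
          simpa using congrArg Units.val (scalarU_injective hM)
        rcases hsgn _ ⟨M, hl1⟩ with h | h
        · left; rw [hl, Units.ext (h.trans Units.val_one.symm), map_one]
        · right; rw [hl, show l = -1 from Units.ext (by simpa using h), scalarU_neg_one]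
      simp only [Finset.coe_insert, Finset.coe_singleton, Set.mem_insert_iff, Set.mem_singleton_iff]
      rcases hab with rfl | rfl
      · have hy : J⁻¹ * x ∈ C := C.mul_mem (C.inv_mem hJC) hx
        have hval : ((J⁻¹ * x : GL (Fin 2) F) : Matrix (Fin 2) (Fin 2) F) = rot b 0 := by
          have e : (J⁻¹ : GL (Fin 2) F) = -J := by
            rw [inv_eq_iff_mul_eq_one, mul_neg, hJ2, neg_neg]
          rw [e, Units.val_mul, Units.val_neg, hJv, h]
          ext i j; fin_cases i <;> fin_cases j <;> simp [rot, Matrix.mul_apply, Fin.sum_univ_two]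
        rcases key _ hy _ hval with h1 | h1
        · exact Or.inr (Or.inr (Or.inl (by rw [inv_mul_eq_iff_eq_mul, mul_one] at h1; exact h1)))
        · exact Or.inr (Or.inr (Or.inr (by rw [inv_mul_eq_iff_eq_mul, mul_neg, mul_one] at h1; exact h1)))
      · rcases key x hx a h with h1 | h1
        · exact Or.inl h1
        · exact Or.inr (Or.inl h1)
    have h4 : Nat.card C ≤ 4 := by
      have := Set.ncard_le_ncard hsub (Finset.finite_toSet _)
      rw [Set.ncard_coe_finset, ← Nat.card_coe_set_eq] at this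
      exact le_trans this (by
        refine le_trans (Finset.card_insert_le _ _) ?_
        refine Nat.succ_le_succ (le_trans (Finset.card_insert_le _ _) ?_)
        refine Nat.succ_le_succ (le_trans (Finset.card_insert_le _ _) ?_)
        simp)
    have h8 : 8 ∣ Fintype.card F ^ 2 - 1 := by
      obtain ⟨k, hk⟩ : ∃ k, Fintype.card F = 2 * k + 1 := ⟨Fintype.card F / 2, by omega⟩
      have hk2 : 2 ∣ k * (k + 1) := (Nat.even_mul_succ_self k).two_dvd
      rw [hk, show (2 * k + 1) ^ 2 - 1 = 4 * (k * (k + 1)) by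
        rw [show (2 * k + 1) ^ 2 = 4 * (k * (k + 1)) + 1 by ring]; omega]
      exact Nat.mul_dvd_mul_left 4 hk2
    have h0 : Fintype.card F ^ 2 - 1 ≠ 0 := by
      have : 3 ^ 2 ≤ Fintype.card F ^ 2 := Nat.pow_le_pow_left (by omega) 2
      omega
    have h3 : 3 ≤ (Fintype.card F ^ 2 - 1).factorization 2 :=
      (Nat.Prime.pow_dvd_iff_le_factorization Nat.prime_two h0).mp (by norm_num; exact h8)
    have := Nat.pow_le_pow_right (show 1 ≤ 2 by norm_num) h3
    omega
  refine ⟨T, Or.inl hm1C, hTc, ?_, ⟨J, ⟨Or.inl hJC, ?_⟩, by rw [hJ2]; exact hne1⟩, ?_⟩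
  · intro a ha
    have hJdet : DetOne J := by simp [DetOne, hJv, rot, Matrix.det_fin_two]
    have haR : a ∈ R := Subgroup.mem_centralizer_singleton_iff.mpr (ha J ⟨Or.inl hJC, hJdet⟩)
    obtain ⟨x, y, h⟩ : ∃ x y : F, x ^ 2 + y ^ 2 + 1 = 0 := by
      obtain ⟨x, y, h⟩ := FiniteField.exists_root_sum_quadratic (f := Polynomial.X ^ 2)
        (g := Polynomial.X ^ 2 + 1) (Polynomial.degree_X_pow (R := F) 2) (by
          rw [← Polynomial.C_1, Polynomial.degree_X_pow_add_C (by norm_num)]; norm_num) (by omega)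
      exact ⟨x, y, by simpa [add_assoc] using h⟩
    let M0 : GL (Fin 2) F := Matrix.GeneralLinearGroup.mkOfDetNeZero (rot x y) (by
      simp [rot, Matrix.det_fin_two]
      intro h0
      exact one_ne_zero (show (1 : F) = 0 by linear_combination h - h0))
    have hM0R : M0 ∈ R := (hmemR _).mpr ⟨x, y, rfl⟩
    set v := (Nat.card R).factorization 2
    set o := Nat.card R / 2 ^ v with ho
    have hpowR : M0 ^ Nat.card R = 1 := by
      have := congrArg Subtype.val (pow_card_eq_one' (x := (⟨M0, hM0R⟩ : R)))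
      rwa [Subgroup.coe_pow, Subgroup.coe_one] at this
    have hoC : M0 ^ o ∈ C := (hC _).mpr ⟨R.pow_mem hM0R o, v, by
      rw [← pow_mul, ho, mul_comm, Nat.ordProj_mul_ordCompl_eq_self, hpowR]⟩
    have hodd : Odd o := by
      rw [← Nat.not_even_iff_odd, even_iff_two_dvd]
      exact Nat.not_dvd_ordCompl Nat.prime_two Nat.card_pos.ne'
    have hdet : ((M0 ^ o : GL (Fin 2) F) : Matrix (Fin 2) (Fin 2) F).det = -1 := by
      rw [Units.val_pow_eq_pow_val, Matrix.det_pow]
      have : (M0 : Matrix (Fin 2) (Fin 2) F).det = -1 := by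
        show (rot x y).det = -1
        simp [rot, Matrix.det_fin_two]
        linear_combination h
      rw [this, hodd.neg_one_pow]
    have hMs : M0 ^ o * s ∈ T ⊓ detKer (Fin 2) F := by
      refine ⟨Or.inr (by rw [mul_assoc, hss, mul_one]; exact hoC), ?_⟩
      show DetOne _
      rw [DetOne, Units.val_mul, Matrix.det_mul, hdet, hsv]
      simp [Matrix.det_fin_two]
    have h1 := ha _ hMs
    rw [← mul_assoc, hcomm a haR _ (R.pow_mem hM0R o), mul_assoc, mul_assoc] at h1
    have h3 := congrArg (fun M : GL (Fin 2) F => (M : Matrix (Fin 2) (Fin 2) F)) (mul_left_cancel h1)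
    obtain ⟨p, r, hpr⟩ := (hmemR a).mp haR
    simp only [Units.val_mul, hsv, hpr] at h3
    have h4 := congrFun (congrFun h3 1) 0
    simp [rot, Matrix.mul_apply, Fin.sum_univ_two] at h4
    refine hrot_scalar a haR p r hpr ?_
    have : (2 : F) * r = 0 := by linear_combination h4
    simpa [h2] using this
  · show DetOne J
    simp [DetOne, hJv, rot, Matrix.det_fin_two]
  · intro g hg
    set c' := g * c * g⁻¹ with hc'
    have hc'T : c' ∈ T := hg c (Or.inl hcC)
    have hc'C : c' ∈ C := by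
      rcases hc'T with h | h
      · exact h
      · exfalso
        obtain ⟨a, b, hab⟩ := (hmemR _).mp (hCR _ h)
        have e : c' = (c' * s) * s := by rw [mul_assoc, hss, mul_one]
        have hval : (c' : Matrix (Fin 2) (Fin 2) F) = !![a, b; b, -a] := by
          rw [e, Units.val_mul, hab, hsv]
          ext i j; fin_cases i <;> fin_cases j <;> simp [rot, Matrix.mul_apply, Fin.sum_univ_two]
        have hne : a * a + b * b ≠ 0 := by
          intro h0
          obtain ⟨rfl, rfl⟩ := hnorm _ _ h0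
          exact c'.ne_zero (hval.trans (by ext i j; fin_cases i <;> fin_cases j <;> simp))
        have hsq : c' * c' = scalarU (Fin 2) (Units.mk0 _ hne) := by
          apply Units.ext
          rw [Units.val_mul, hval, coe_scalarU]
          ext i j; fin_cases i <;> fin_cases j <;> simp [Matrix.mul_apply, Fin.sum_univ_two] <;> ring
        apply hc
        refine ⟨Units.mk0 _ hne, ?_⟩
        calc c * c = g⁻¹ * (c' * c' * g) := by rw [hc']; group
          _ = _ := by rw [hsq, scalarU_comm, inv_mul_cancel_left]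
    obtain ⟨a, b, hab⟩ := (hmemR _).mp (R.mul_mem (hCR _ hc'C) (hCR _ hc'C))
    have hb : b ≠ 0 := by
      intro hb
      apply hc
      obtain ⟨l, hl⟩ := hrot_scalar _ (R.mul_mem (hCR _ hc'C) (hCR _ hc'C)) a b hab hb
      refine ⟨l, ?_⟩
      calc c * c = g⁻¹ * (c' * c' * g) := by rw [hc']; group
        _ = _ := by rw [hl, scalarU_comm, inv_mul_cancel_left]
    have hgJ : g * J * g⁻¹ * (c' * c') = c' * c' * (g * J * g⁻¹) := by
      have hJc : J * (c * c) = (c * c) * J :=
        (Subgroup.mem_centralizer_singleton_iff.mp (R.mul_mem (hCR _ hcC) (hCR _ hcC))).symm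
      calc g * J * g⁻¹ * (c' * c') = g * (J * (c * c)) * g⁻¹ := by rw [hc']; group
        _ = g * ((c * c) * J) * g⁻¹ := by rw [hJc]
        _ = c' * c' * (g * J * g⁻¹) := by rw [hc']; group
    obtain ⟨K, hK⟩ : ∃ K, K = g * J * g⁻¹ := ⟨_, rfl⟩
    rw [← hK] at hgJ
    have hKR : K ∈ R := by
      apply Subgroup.mem_centralizer_singleton_iff.mpr
      apply Units.ext
      have h' := congrArg (fun M : GL (Fin 2) F => (M : Matrix (Fin 2) (Fin 2) F)) hgJ
      simp only [Units.val_mul] at h'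
      rw [← Units.val_mul c' c', hab] at h'
      have e00 := congrFun (congrFun h' 0) 0
      have e01 := congrFun (congrFun h' 0) 1
      simp [rot, Matrix.mul_apply, Fin.sum_univ_two] at e00 e01
      rw [Units.val_mul, Units.val_mul, hJv]
      have k1 : (K : Matrix (Fin 2) (Fin 2) F) 0 1 = -(K : Matrix (Fin 2) (Fin 2) F) 1 0 := by
        have : b * ((K : Matrix (Fin 2) (Fin 2) F) 0 1 + (K : Matrix (Fin 2) (Fin 2) F) 1 0) = 0 := by
          linear_combination e00
        have := (mul_eq_zero.mp this).resolve_left hb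
        linear_combination this
      have k2 : (K : Matrix (Fin 2) (Fin 2) F) 1 1 = (K : Matrix (Fin 2) (Fin 2) F) 0 0 := by
        have : b * ((K : Matrix (Fin 2) (Fin 2) F) 1 1 - (K : Matrix (Fin 2) (Fin 2) F) 0 0) = 0 := by
          linear_combination e01
        exact sub_eq_zero.mp ((mul_eq_zero.mp this).resolve_left hb)
      ext i j
      fin_cases i <;> fin_cases j <;> simp [rot, Matrix.mul_apply, Fin.sum_univ_two, k1, k2]
    have hK2 : K * K = -1 := by
      calc K * K = g * (J * J) * g⁻¹ := by rw [hK]; group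
        _ = -1 := by rw [hJ2]; simp
    obtain ⟨p, r, hpr⟩ := (hmemR K).mp hKR
    have hKJ : K = J ∨ K = -J := by
      have h' := congrArg (fun M : GL (Fin 2) F => (M : Matrix (Fin 2) (Fin 2) F)) hK2
      simp only [Units.val_mul, hpr, Units.val_neg, Units.val_one] at h'
      have e00 := congrFun (congrFun h' 0) 0
      have e10 := congrFun (congrFun h' 1) 0
      simp [rot, Matrix.mul_apply, Fin.sum_univ_two] at e00 e10
      have hp0 : p = 0 := by
        by_contra hp
        have : r = 0 := by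
          have : (2 : F) * p * r = 0 := by linear_combination e10
          simpa [h2, hp] using this
        subst this
        exact hns p (by linear_combination e00)
      subst hp0
      have hr : r * r = 1 := by linear_combination -e00
      rcases mul_self_eq_one_iff.mp hr with rfl | rfl
      · exact Or.inl (Units.ext (hpr.trans hJv.symm))
      · refine Or.inr (Units.ext (hpr.trans ?_))
        rw [Units.val_neg, hJv]
        ext i j; fin_cases i <;> fin_cases j <;> simp [rot]
    obtain ⟨r2, hr2⟩ : ∃ r2, r2 = g * g := ⟨_, rfl⟩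
    have hr2R : r2 ∈ R := by
      apply Subgroup.mem_centralizer_singleton_iff.mpr
      have e1 : g * J = K * g := by rw [hK]; group
      rcases hKJ with h | h <;> rw [h] at e1
      · rw [hr2, mul_assoc, e1, ← mul_assoc, e1, mul_assoc]
      · rw [hr2, mul_assoc, e1, neg_mul, mul_neg, ← mul_assoc, e1, neg_mul, neg_mul, neg_neg, mul_assoc]
    have hk : r2 * (s * r2⁻¹ * s) ∈ C := by
      apply hTR
      · have := T.mul_mem (hg _ (hg s (Or.inr (by rw [hss]; exact C.one_mem))))
          (Or.inr (by rw [hss]; exact C.one_mem) : s ∈ T)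
        convert this using 1
        rw [hr2]; group
      · refine R.mul_mem hr2R ?_
        obtain ⟨p', r', hpr'⟩ := (hmemR _).mp (R.inv_mem hr2R)
        refine (hmemR _).mpr ⟨p', -r', ?_⟩
        rw [Units.val_mul, Units.val_mul, hsv, hpr']
        ext i j; fin_cases i <;> fin_cases j <;> simp [rot, Matrix.mul_apply, Fin.sum_univ_two]
    obtain ⟨a', b', hab'⟩ := (hmemR r2).mp hr2R
    have hne : a' * a' + b' * b' ≠ 0 := by
      intro h0
      obtain ⟨rfl, rfl⟩ := hnorm _ _ h0
      exact r2.ne_zero (hab'.trans (by ext i j; fin_cases i <;> fin_cases j <;> simp [rot]))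
    have hnm : r2 * (s * r2 * s) = scalarU (Fin 2) (Units.mk0 _ hne) := by
      apply Units.ext
      rw [Units.val_mul, Units.val_mul, Units.val_mul, hab', hsv, coe_scalarU]
      ext i j; fin_cases i <;> fin_cases j <;> simp [rot, Matrix.mul_apply, Fin.sum_univ_two] <;> ring
    set k := r2 * (s * r2⁻¹ * s) with hkdef
    obtain ⟨-, n, hn⟩ := (hC k).mp hk
    refine ⟨n + 2, Units.mk0 _ hne ^ 2 ^ n, ?_⟩
    have hkr : k * scalarU (Fin 2) (Units.mk0 _ hne) = r2 * r2 := by
      rw [← hnm, hkdef]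
      have e : s * r2⁻¹ * s * (r2 * (s * r2 * s)) = r2 := by
        have hcR : s * r2⁻¹ * s ∈ R := by
          obtain ⟨p', r', hpr'⟩ := (hmemR _).mp (R.inv_mem hr2R)
          refine (hmemR _).mpr ⟨p', -r', ?_⟩
          rw [Units.val_mul, Units.val_mul, hsv, hpr']
          ext i j; fin_cases i <;> fin_cases j <;> simp [rot, Matrix.mul_apply, Fin.sum_univ_two]
        rw [← mul_assoc _ r2, hcomm _ hcR _ hr2R, mul_assoc r2]
        have : s * r2⁻¹ * s * (s * r2 * s) = 1 := by
          calc s * r2⁻¹ * s * (s * r2 * s) = s * r2⁻¹ * (s * s) * r2 * s := by group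
            _ = s * r2⁻¹ * r2 * s := by rw [hss, mul_one]
            _ = 1 := by rw [mul_assoc s, inv_mul_cancel, mul_one, hss]
        rw [this, mul_one]
      rw [mul_assoc, e]
    have hcm : Commute k (scalarU (Fin 2) (Units.mk0 _ hne)) := (scalarU_comm _ _).symm
    have h' := congrArg (fun u => u ^ 2 ^ n) hkr
    simp only [hcm.mul_pow, hn, one_mul] at h'
    rw [map_pow, h', hr2, show 2 ^ (n + 2) = 4 * 2 ^ n by ring, pow_mul,
      show g ^ 4 = g * g * (g * g) by simp [pow_succ, mul_assoc]]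

end

end CfsgLib.PronormalPSL
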