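import Cfsg.Agent.Lib.PronormalPSL.GLBase

/-! For `q` odd and `d = 2^w ≥ 4`, the Sylow 2-subgroups of `SL_d(q)` and `PSL_d(q)` are
self-normalising. -/

set_option autoImplicit false
set_option linter.style.haveILetI false

namespace CfsgLib.PronormalPSL

open Matrix

/-- The 2-adic valuation of `q ^ j - 1`. -/
def f2 (q j : ℕ) : ℕ := (q ^ j - 1).factorization 2

theorem f2_mul_odd {q : ℕ} (hq : Odd q) {b o : ℕ} (hb : b ≠ 0) (ho : Odd o) (hq1 : 1 < q) :
    f2 q (b * o) = f2 q b := by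
  unfold f2
  rw [pow_mul]
  set a := q ^ b with ha
  have ha1 : 1 < a := Nat.one_lt_pow hb hq1
  have hao : Odd a := hq.pow
  obtain ⟨x, hx⟩ : ∃ x, a = x + 1 := ⟨a - 1, by omega⟩
  have hgeom : (∑ i ∈ Finset.range o, a ^ i) * x + 1 = a ^ o := by
    rw [hx]; exact geom_sum_mul_add x o
  have hsum : Odd (∑ i ∈ Finset.range o, a ^ i) := by
    rw [Nat.odd_iff, Finset.sum_nat_mod]
    have : ∀ i ∈ Finset.range o, a ^ i % 2 = 1 := fun i _ => Nat.odd_iff.mp hao.pow
    rw [Finset.sum_congr rfl this, Finset.sum_const, Finset.card_range, smul_eq_mul, mul_one]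
    exact Nat.odd_iff.mp ho
  have hsum0 : (∑ i ∈ Finset.range o, a ^ i) ≠ 0 := by
    intro h0
    rw [h0] at hsum
    exact absurd hsum (by decide)
  rw [show a ^ o - 1 = (∑ i ∈ Finset.range o, a ^ i) * x by omega,
    Nat.factorization_mul hsum0 (by omega), Finsupp.add_apply,
    Nat.factorization_eq_zero_of_not_dvd (by
      rw [← even_iff_two_dvd, Nat.not_even_iff_odd]; exact hsum), zero_add]
  congr 2
  omega

theorem f2_add_pow {q k i : ℕ} (hq : Odd q) (hq1 : 1 < q) (hi : 0 < i) (hik : i < 2 ^ k) :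
    f2 q (2 ^ k + i) = f2 q i := by
  obtain ⟨j, o, ho, rfl⟩ := Nat.exists_eq_two_pow_mul_odd (n := i) (by omega)
  have hjk : j < k := by
    by_contra h
    have h1 : 2 ^ k ≤ 2 ^ j := Nat.pow_le_pow_right (by norm_num) (by omega)
    have h2 : 1 ≤ o := ho.pos
    have h3 : 2 ^ j * 1 ≤ 2 ^ j * o := Nat.mul_le_mul_left _ h2
    omega
  obtain ⟨d, rfl⟩ := Nat.exists_eq_add_of_lt hjk
  have he : 2 ^ (j + d + 1) + 2 ^ j * o = 2 ^ j * (2 ^ (d + 1) + o) := by ring
  have hodd : Odd (2 ^ (d + 1) + o) := by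
    rw [pow_succ', add_comm]
    exact ho.add_even (even_two_mul _)
  rw [he, f2_mul_odd hq (pow_ne_zero _ two_ne_zero) hodd hq1,
    f2_mul_odd hq (pow_ne_zero _ two_ne_zero) ho hq1]

theorem f2_double {q m : ℕ} (hq1 : 1 < q) (hm : q ^ m % 4 = 1) (hm0 : m ≠ 0) :
    f2 q (2 * m) = f2 q m + 1 := by
  unfold f2
  set a := q ^ m with ha
  have h1 : 1 < a := Nat.one_lt_pow hm0 hq1
  rw [mul_comm 2 m, pow_mul, ← ha]
  obtain ⟨x, hx⟩ : ∃ x, a = x + 1 := ⟨a - 1, by omega⟩
  rw [hx, show (x + 1) ^ 2 - 1 = x * (x + 2) by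
    rw [show (x + 1) ^ 2 = x * (x + 2) + 1 by ring]; omega, Nat.factorization_mul (by omega) (by omega),
    Finsupp.add_apply, show x + 1 - 1 = x by omega]
  congr 1
  obtain ⟨y, hy⟩ : ∃ y, x + 2 = 2 * (2 * y + 1) := ⟨x / 4, by omega⟩
  rw [hy, Nat.factorization_mul (by norm_num) (by omega), Finsupp.add_apply,
    Nat.factorization_eq_zero_of_not_dvd (n := 2 * y + 1) (by omega), add_zero]
  exact Nat.Prime.factorization_self Nat.prime_two

variable {F : Type*} [Field F] [Fintype F]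

theorem factorization_card_GL {ι : Type*} [Fintype ι] [DecidableEq ι] (hodd : Odd (Fintype.card F))
    (n : ℕ) (hn : Fintype.card ι = n) :
    (Nat.card (GL ι F)).factorization 2 = ∑ j ∈ Finset.range n, f2 (Fintype.card F) (j + 1) := by
  have hq1 : 1 < Fintype.card F := Fintype.one_lt_card
  have e : GL ι F ≃* GL (Fin n) F :=
    Units.mapEquiv (Matrix.reindexAlgEquiv F F (Fintype.equivFinOfCardEq hn)).toMulEquiv
  rw [Nat.card_congr e.toEquiv, Matrix.card_GL_field]
  have hne : ∀ i : Fin n, Fintype.card F ^ (n - (i : ℕ)) - 1 ≠ 0 := fun i => by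
    have := Nat.one_lt_pow (show n - (i : ℕ) ≠ 0 by omega) hq1
    omega
  have hterm : ∀ i : Fin n, Fintype.card F ^ n - Fintype.card F ^ (i : ℕ) =
      Fintype.card F ^ (i : ℕ) * (Fintype.card F ^ (n - (i : ℕ)) - 1) := fun i => by
    rw [Nat.mul_sub, mul_one, ← pow_add, Nat.add_sub_cancel' (le_of_lt i.2)]
  simp only [hterm]
  rw [Nat.factorization_prod (fun i _ => mul_ne_zero (pow_ne_zero _ (by omega)) (hne i)),
    Finsupp.finsetSum_apply]
  have hsimp : ∀ i : Fin n, (Fintype.card F ^ (i : ℕ) * (Fintype.card F ^ (n - (i : ℕ)) - 1)).factorization 2 =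
      f2 (Fintype.card F) (n - (i : ℕ)) := by
    intro i
    rw [Nat.factorization_mul (pow_ne_zero _ (by omega)) (hne i), Finsupp.add_apply,
      Nat.factorization_eq_zero_of_not_dvd (n := Fintype.card F ^ (i : ℕ)) (by
        rw [← even_iff_two_dvd, Nat.not_even_iff_odd]; exact hodd.pow), zero_add]
    rfl
  rw [Finset.sum_congr rfl fun i _ => hsimp i,
    Fin.sum_univ_eq_sum_range (fun i => f2 (Fintype.card F) (n - i)),
    ← Finset.sum_range_reflect]
  refine Finset.sum_congr rfl fun i hi => ?_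
  rw [Finset.mem_range] at hi
  congr 1
  omega

theorem card_GL_double (hodd : Odd (Fintype.card F)) (k : ℕ) (hk : 1 ≤ k ∨ Fintype.card F % 4 = 1)
    {ι : Type} [Fintype ι] [DecidableEq ι] (hι : Fintype.card ι = 2 ^ k) :
    (Nat.card (GL (ι ⊕ ι) F)).factorization 2 = 1 + 2 * (Nat.card (GL ι F)).factorization 2 := by
  set q := Fintype.card F
  have hq1 : 1 < q := Fintype.one_lt_card
  rw [factorization_card_GL hodd (2 ^ k + 2 ^ k) (by simp [hι]), factorization_card_GL hodd (2 ^ k) hι,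
    Finset.sum_range_add]
  obtain ⟨m, hm⟩ : ∃ m, 2 ^ k = m + 1 := ⟨2 ^ k - 1, by have := Nat.two_pow_pos k; omega⟩
  have h4 : q ^ (m + 1) % 4 = 1 := by
    rw [← hm]
    rcases hk with hk | hk
    · obtain ⟨k', rfl⟩ := Nat.exists_eq_succ_of_ne_zero (by omega : k ≠ 0)
      rw [pow_succ', pow_mul]
      have h : q ^ 2 % 4 = 1 := by
        obtain ⟨r, hr⟩ := hodd
        rw [show q ^ 2 = 4 * (r * r + r) + 1 by rw [hr]; ring]; omega
      rw [Nat.pow_mod, h, one_pow, Nat.one_mod]
    · rw [Nat.pow_mod, hk, one_pow, Nat.one_mod]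
  have hrest : ∀ j ∈ Finset.range m, f2 q (2 ^ k + j + 1) = f2 q (j + 1) := by
    intro j hj
    rw [Finset.mem_range] at hj
    rw [add_assoc, f2_add_pow hodd hq1 (by omega) (by omega)]
  have hlast : f2 q (2 ^ k + m + 1) = f2 q (m + 1) + 1 := by
    rw [add_assoc, ← hm, ← two_mul, hm]
    exact f2_double hq1 h4 (by omega)
  have hx : ∑ j ∈ Finset.range (m + 1), f2 q (2 ^ k + j + 1) =
      ∑ j ∈ Finset.range (m + 1), f2 q (j + 1) + 1 := by
    rw [Finset.sum_range_succ, Finset.sum_range_succ, Finset.sum_congr rfl hrest, hlast]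
    ring
  rw [← hm] at hx
  simp only [q] at hx
  omega

theorem good_and_strong (hodd : Odd (Fintype.card F)) : ∀ k : ℕ, 1 ≤ k →
    ∃ (ι : Type) (_ : Fintype ι) (_ : DecidableEq ι), Fintype.card ι = 2 ^ k ∧ Good F ι ∧
      (2 ≤ k → Strong F ι) := by
  have h2 : (2 : F) ≠ 0 := Ring.two_ne_zero fun h => by
    have : CharP F 2 := ringChar.of_eq h
    have := FiniteField.even_card_of_char_two h
    rw [Nat.odd_iff] at hodd
    omega
  intro k hk
  induction k, hk using Nat.le_induction with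
  | base =>
    rcases (show Fintype.card F % 4 = 1 ∨ Fintype.card F % 4 = 3 by rw [Nat.odd_iff] at hodd; omega)
      with h | h
    · refine ⟨Fin 1 ⊕ Fin 1, inferInstance, inferInstance, by simp, good_two_of_one h h2 ?_, by omega⟩
      exact card_GL_double hodd 0 (Or.inr h) (by simp)
    · refine ⟨Fin 2, inferInstance, inferInstance, by simp, good_two_of_three h ?_, by omega⟩
      rw [factorization_card_GL hodd 2 (Fintype.card_fin 2), Finset.sum_range_succ,
        Finset.sum_range_one]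
      congr 1
      rw [f2, zero_add, pow_one]
      obtain ⟨y, hy⟩ : ∃ y, Fintype.card F - 1 = 2 * (2 * y + 1) :=
        ⟨Fintype.card F / 4, by omega⟩
      rw [hy, Nat.factorization_mul (by norm_num) (by omega), Finsupp.add_apply,
        Nat.factorization_eq_zero_of_not_dvd (n := 2 * y + 1) (by omega), add_zero]
      exact Nat.Prime.factorization_self Nat.prime_two
  | succ k hk ih =>
    obtain ⟨ι, i1, i2, hcard, hgood, -⟩ := ih
    haveI : Nonempty ι := Fintype.card_pos_iff.mp (by rw [hcard]; exact Nat.two_pow_pos k)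
    obtain ⟨hg, hst⟩ := good_step h2 (by rw [hcard]; exact ((Nat.even_pow).mpr ⟨even_two, by omega⟩))
      hgood (card_GL_double hodd k (Or.inl hk) hcard)
    exact ⟨ι ⊕ ι, inferInstance, inferInstance, by rw [Fintype.card_sum, hcard, pow_succ]; ring, hg,
      fun _ => hst⟩

/-- Every Sylow 2-subgroup of `SL_d(q)`, `q` odd, `d = 2^w ≥ 4`, is self-normalising. -/
theorem sylow_SL_self_normalizing (hodd : Odd (Fintype.card F)) (w : ℕ) (hw : 2 ≤ w) :
    ∀ P : Sylow 2 (Matrix.SpecialLinearGroup (Fin (2 ^ w)) F),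
      Subgroup.normalizer (P : Set (Matrix.SpecialLinearGroup (Fin (2 ^ w)) F)) ≤ P := by
  obtain ⟨ι, i1, i2, hcard, -, hst⟩ := good_and_strong hodd w (by omega)
  obtain ⟨T, hTc, hT⟩ := hst hw
  let e : ι ≃ Fin (2 ^ w) := Fintype.equivFinOfCardEq hcard
  let E : GL ι F ≃* GL (Fin (2 ^ w)) F := Units.mapEquiv (Matrix.reindexAlgEquiv F F e).toMulEquiv
  let T' : Subgroup (GL (Fin (2 ^ w)) F) := T.map E.toMonoidHom
  let tg := (Matrix.SpecialLinearGroup.toGL : Matrix.SpecialLinearGroup (Fin (2 ^ w)) F →* _)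
  have hTS : Nat.card T' = 2 ^ (Nat.card (GL (Fin (2 ^ w)) F)).factorization 2 := by
    rw [Nat.card_congr (T.equivMapOfInjective E.toMonoidHom E.injective).toEquiv.symm, hTc,
      Nat.card_congr E.toEquiv]
  let Tsyl : Sylow 2 (GL (Fin (2 ^ w)) F) := Sylow.ofCard T' (by rw [hTS])
  intro P
  obtain ⟨P', hP'⟩ := P.exists_comap_eq_of_injective (f := tg)
    Matrix.SpecialLinearGroup.toGL_injective
  obtain ⟨a, ha⟩ := MulAction.exists_smul_eq (GL (Fin (2 ^ w)) F) P' Tsyl
  have hmemP : ∀ x, x ∈ P ↔ a * tg x * a⁻¹ ∈ T' := by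
    intro x
    have h1 : x ∈ P ↔ tg x ∈ P' := by
      exact (SetLike.ext_iff.mp hP' x).symm.trans Iff.rfl
    rw [h1]
    have hset : ((a • P' : Sylow 2 _) : Subgroup (GL (Fin (2 ^ w)) F)) = T' := by rw [ha]; rfl
    rw [← hset]
    simp [Sylow.coe_subgroup_smul, Subgroup.mem_pointwise_smul_iff_inv_smul_mem,
      MulAut.smul_def, mul_assoc]
    exact Iff.rfl
  intro g hg
  set g' := E.symm (a * tg g * a⁻¹) with hg'
  have hdetE : ∀ u : GL (Fin (2 ^ w)) F,
      ((E.symm u : GL ι F) : Matrix ι ι F).det = (u : Matrix (Fin (2 ^ w)) (Fin (2 ^ w)) F).det := by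
    intro u
    exact Matrix.det_reindexAlgEquiv F F e.symm (u : Matrix _ _ F)
  have hnorm : ∀ x ∈ T ⊓ detKer ι F, g' * x * g'⁻¹ ∈ T ⊓ detKer ι F := by
    intro x hx
    refine ⟨?_, by show DetOne _; rw [DetOne, det_conj]; exact hx.2⟩
    have hd : ((a⁻¹ * E x * a : GL _ F) : Matrix (Fin (2 ^ w)) (Fin (2 ^ w)) F).det = 1 := by
      have h1 := det_conj a⁻¹ (E x)
      rw [inv_inv] at h1
      rw [h1, ← hdetE, MulEquiv.symm_apply_apply]
      exact hx.2
    set y : Matrix.SpecialLinearGroup (Fin (2 ^ w)) F := ⟨_, hd⟩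
    have hy : tg y = a⁻¹ * E x * a := Units.ext rfl
    have hyP : y ∈ P := by
      rw [hmemP, hy]
      have : a * (a⁻¹ * E x * a) * a⁻¹ = E x := by group
      rw [this]
      exact ⟨x, hx.1, rfl⟩
    have := (hmemP _).mp ((Subgroup.mem_normalizer_iff.mp hg y).mp hyP)
    obtain ⟨z, hz, hzeq⟩ := this
    have : g' * x * g'⁻¹ = z := by
      apply E.injective
      rw [show E z = _ from hzeq, map_mul, map_mul, map_inv, hg', MulEquiv.apply_symm_apply,
        map_mul, map_mul, map_inv, hy]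
      group
    rw [this]
    exact hz
  obtain ⟨N, l, hl⟩ := hT g' hnorm
  have hl1 : (l : F) ^ 2 ^ w = 1 := by
    have h := congrArg (fun u : GL ι F => (u : Matrix ι ι F).det) hl
    simp only [Units.val_pow_eq_pow_val, Matrix.det_pow, coe_scalarU, Matrix.det_diagonal,
      Finset.prod_const, Finset.card_univ, hcard] at h
    rw [← h, hg', hdetE, det_conj]
    have : (tg g : Matrix (Fin (2 ^ w)) (Fin (2 ^ w)) F).det = 1 := g.2
    rw [this, one_pow]
  have hpow : g ^ 2 ^ (N + w) = 1 := by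
    apply Matrix.SpecialLinearGroup.toGL_injective
    have h := congrArg (fun u => u ^ 2 ^ w) hl
    simp only [← map_pow, ← pow_mul, ← pow_add] at h
    rw [show l ^ 2 ^ w = 1 from Units.ext (by simpa using hl1), map_one, hg', ← map_pow,
      ← map_one E.symm, E.symm.injective.eq_iff, conj_pow, conj_eq_one_iff] at h
    simpa [tg] using h
  have hp : IsPGroup 2 (Subgroup.zpowers g) := by
    rintro ⟨_, k, rfl⟩
    refine ⟨N + w, Subtype.ext ?_⟩
    show (g ^ k) ^ 2 ^ (N + w) = 1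
    rw [← zpow_natCast, ← _root_.zpow_mul, mul_comm, _root_.zpow_mul, zpow_natCast, hpow, _root_.one_zpow]
  have hle : Subgroup.zpowers g ≤ Subgroup.normalizer
      (P : Set (Matrix.SpecialLinearGroup (Fin (2 ^ w)) F)) := Subgroup.zpowers_le.mpr hg
  have hsup := hp.to_sup_of_normal_right' P.isPGroup' hle
  rw [← P.is_maximal' hsup le_sup_right]
  exact Subgroup.mem_sup_left (Subgroup.mem_zpowers g)

/-- Self-normalising Sylow 2-subgroups pass to quotients by central 2-groups. -/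
theorem sylow_self_normalizing_of_surjective {G Q : Type*} [Group G] [Group Q] [Finite G]
    (f : G →* Q) (hf : Function.Surjective f) (hker : IsPGroup 2 f.ker)
    (hP : ∀ P : Sylow 2 G, Subgroup.normalizer (P : Set G) ≤ P) :
    ∀ P : Sylow 2 Q, Subgroup.normalizer (P : Set Q) ≤ P := by
  intro P
  have hp : IsPGroup 2 ((P : Subgroup Q).comap f) :=
    P.isPGroup'.comap_of_ker_isPGroup f hker
  obtain ⟨S, hS⟩ := hp.exists_le_sylow
  have hSf : (S : Subgroup G).map f = P := by
    refine P.is_maximal' (S.isPGroup'.map f) ?_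
    rw [← Subgroup.map_comap_eq_self_of_surjective hf (P : Subgroup Q)]
    exact Subgroup.map_mono hS
  intro x hx
  obtain ⟨y, rfl⟩ := hf x
  have hSeq : (P : Subgroup Q).comap f = S := by
    refine le_antisymm hS fun z hz => ?_
    rw [Subgroup.mem_comap, ← hSf]
    exact ⟨z, hz, rfl⟩
  have hy : y ∈ Subgroup.normalizer ((S : Subgroup G) : Set G) := by
    rw [Subgroup.mem_normalizer_iff]
    intro z
    rw [← hSeq, Subgroup.mem_comap, Subgroup.mem_comap, map_mul, map_mul, map_inv]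
    exact Subgroup.mem_normalizer_iff.mp hx (f z)
  rw [← SetLike.mem_coe, ← hSf]
  exact ⟨y, hP S hy, rfl⟩

end CfsgLib.PronormalPSL
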