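import Cfsg.Agent.Lib.GLFlags.Bruhat
import Mathlib

/-! In characteristic two, every subgroup of `GL_n` containing the upper unitriangular group is
normalised by every invertible upper triangular matrix. -/

set_option autoImplicit false
set_option linter.style.haveILetI false

namespace CfsgLib.PronormalPSL

open Matrix CfsgLib.GLFlags

variable {n : ℕ} {F : Type*} [Field F]

/-- Diagonal matrices in `GL`. -/
def diagU (d : Fin n → Fˣ) : GL (Fin n) F where
  val := Matrix.diagonal fun i => (d i : F)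
  inv := Matrix.diagonal fun i => ((d i)⁻¹ : Fˣ)
  val_inv := by rw [Matrix.diagonal_mul_diagonal]; simp
  inv_val := by rw [Matrix.diagonal_mul_diagonal]; simp

theorem coe_diagU (d : Fin n → Fˣ) :
    (diagU d : Matrix (Fin n) (Fin n) F) = Matrix.diagonal fun i => (d i : F) := rfl

theorem coe_diagU_inv (d : Fin n → Fˣ) :
    (((diagU d)⁻¹ : GL (Fin n) F) : Matrix (Fin n) (Fin n) F) =
      Matrix.diagonal fun i => (((d i)⁻¹ : Fˣ) : F) := rfl

theorem diagU_mul (d e : Fin n → Fˣ) : diagU d * diagU e = diagU (d * e) := by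
  apply Units.ext
  rw [Units.val_mul, coe_diagU, coe_diagU, coe_diagU, Matrix.diagonal_mul_diagonal]
  simp

/-- Transvections in `GL`. -/
def tvU {i j : Fin n} (hij : i ≠ j) (c : F) : GL (Fin n) F :=
  Matrix.SpecialLinearGroup.toGL (Matrix.SpecialLinearGroup.transvection hij c)

theorem coe_tvU {i j : Fin n} (hij : i ≠ j) (c : F) :
    (tvU hij c : Matrix (Fin n) (Fin n) F) = 1 + Matrix.single i j c :=
  Matrix.SpecialLinearGroup.transvection_coe hij c

/-- Monomial matrices. -/
noncomputable def monU (d : Fin n → Fˣ) (w : Equiv.Perm (Fin n)) : GL (Fin n) F :=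
  diagU d * permGL n F w

theorem monU_apply (d : Fin n → Fˣ) (w : Equiv.Perm (Fin n)) (i j : Fin n) :
    (monU d w : Matrix (Fin n) (Fin n) F) i j = if w j = i then (d i : F) else 0 := by
  rw [monU, Units.val_mul, coe_diagU, Matrix.diagonal_mul, permGL_apply, mul_ite, mul_one, mul_zero]

theorem monU_tvU (d : Fin n → Fˣ) (w : Equiv.Perm (Fin n)) {j k : Fin n} (hjk : j ≠ k) (c : F) :
    monU d w * tvU hjk c =
      tvU (fun h => hjk (w.injective h)) ((d (w j) : F) / (d (w k) : F) * c) * monU d w := by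
  apply Units.ext
  rw [Units.val_mul, Units.val_mul, coe_tvU, coe_tvU, Matrix.mul_add, Matrix.add_mul, Matrix.mul_one,
    Matrix.one_mul]
  congr 1
  ext x y
  by_cases hy : y = k <;> by_cases hx : x = w j
  · subst hx hy
    rw [Matrix.mul_single_apply_same, Matrix.single_mul_apply_same, monU_apply, monU_apply, if_pos rfl,
      if_pos rfl]
    field_simp
  · subst hy
    rw [Matrix.mul_single_apply_same, Matrix.single_mul_apply_of_ne (h := hx), monU_apply,
      if_neg (Ne.symm hx), zero_mul]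
  · subst hx
    rw [Matrix.mul_single_apply_of_ne (hbj := hy), Matrix.single_mul_apply_same, monU_apply,
      if_neg (fun h => hy (w.injective h)), mul_zero]
  · rw [Matrix.mul_single_apply_of_ne (hbj := hy), Matrix.single_mul_apply_of_ne (h := hx)]

theorem diagU_tvU (e : Fin n → Fˣ) {i j : Fin n} (hij : i ≠ j) (c : F) :
    diagU e * tvU hij c * (diagU e)⁻¹ = tvU hij ((e i : F) / (e j : F) * c) := by
  have h := monU_tvU e 1 hij c
  simp only [monU, map_one, mul_one, Equiv.Perm.coe_one, id_eq] at h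
  rw [mul_inv_eq_iff_eq_mul]
  exact h

theorem swap_eq_tvU [CharP F 2] {a b : Fin n} (hab : a ≠ b) :
    permGL n F (Equiv.swap a b) = tvU hab (1 : F) * tvU hab.symm 1 * tvU hab 1 := by
  apply Units.ext
  rw [Units.val_mul, Units.val_mul, coe_tvU, coe_tvU]
  simp only [Matrix.add_mul, Matrix.mul_add, Matrix.one_mul, Matrix.mul_one,
    Matrix.single_mul_single_same, Matrix.single_mul_single_of_ne _ _ _ _ hab,
    Matrix.single_mul_single_of_ne _ _ _ _ hab.symm, Matrix.zero_mul, Matrix.mul_zero, add_zero,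
    zero_add, mul_one]
  ext x y
  rw [permGL_apply]
  have h20 := CharTwo.add_self_eq_zero (1 : F)
  rcases eq_or_ne y a with rfl | hya
  · rw [Equiv.swap_apply_left]
    rcases eq_or_ne x b with rfl | hxb
    · simp [Matrix.one_apply, Matrix.single_apply, hab, hab.symm]
    · rcases eq_or_ne x y with rfl | hxy
      · simp [Matrix.one_apply, Matrix.single_apply, hab, hab.symm, h20]
      · simp [Matrix.one_apply, Matrix.single_apply, hxy, Ne.symm hxy, hxb, Ne.symm hxb, hab, hab.symm]
  rcases eq_or_ne y b with rfl | hyb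
  · rw [Equiv.swap_apply_right]
    rcases eq_or_ne x a with rfl | hxa
    · simp [Matrix.one_apply, Matrix.single_apply, hab, hab.symm, h20]
    · rcases eq_or_ne x y with rfl | hxy
      · simp [Matrix.one_apply, Matrix.single_apply, hab, hab.symm, h20]
      · simp [Matrix.one_apply, Matrix.single_apply, hxy, Ne.symm hxy, hxa, Ne.symm hxa, hab, hab.symm]
  · rw [Equiv.swap_apply_of_ne_of_ne hya hyb]
    simp [Matrix.one_apply, Matrix.single_apply, Ne.symm hya, Ne.symm hyb, eq_comm]

section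

variable (K : Subgroup (GL (Fin n) F))
  (hU : ∀ u : GL (Fin n) F, (u : Matrix (Fin n) (Fin n) F).BlockTriangular id →
    (∀ i, (u : Matrix (Fin n) (Fin n) F) i i = 1) → u ∈ K)

include hU

theorem tvU_upper_mem {i j : Fin n} (hij : i < j) (c : F) : tvU hij.ne c ∈ K := by
  apply hU
  · intro a b hab
    have h1 : a ≠ b := ne_of_gt hab
    have h2 : ¬ (i = a ∧ j = b) := by rintro ⟨rfl, rfl⟩; exact lt_asymm hij hab
    simp [coe_tvU, h1, Matrix.single_apply, h2]
  · intro a
    have h2 : ¬ (i = a ∧ j = a) := by rintro ⟨rfl, rfl⟩; exact lt_irrefl _ hij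
    simp [coe_tvU, Matrix.single_apply, h2]

/-- Monomial elements of `K` are normalised modulo `K` by diagonal matrices. -/
theorem diag_conj_monU [CharP F 2] : ∀ (m : ℕ) (d : Fin n → Fˣ) (w : Equiv.Perm (Fin n)),
    n * n * n - ∑ i : Fin n, (i : ℕ) * (w i : ℕ) = m → monU d w ∈ K →
    ∀ e : Fin n → Fˣ, diagU e * monU d w * (diagU e)⁻¹ ∈ K := by
  intro m
  induction m using Nat.strong_induction_on with
  | _ m ih =>
    intro d w hm hmem e
    rcases eq_or_ne w 1 with rfl | hw
    · simp only [monU, map_one, mul_one] at hmem ⊢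
      rw [diagU_mul, mul_comm e d, ← diagU_mul, mul_inv_cancel_right]
      exact hmem
    rcases Nat.eq_zero_or_pos n with rfl | hn
    · exact absurd (Subsingleton.elim w 1) hw
    obtain ⟨n, rfl⟩ := Nat.exists_eq_succ_of_ne_zero hn.ne'
    obtain ⟨i, hi⟩ : ∃ i : Fin n, w⁻¹ i.succ < w⁻¹ i.castSucc := by
      by_contra hcon
      push Not at hcon
      have hmono : StrictMono (w⁻¹ : Equiv.Perm (Fin (n + 1))) := by
        rw [Fin.strictMono_iff_lt_succ]
        intro i
        refine lt_of_le_of_ne (hcon i) fun h => ?_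
        exact (Fin.castSucc_lt_succ (i := i)).ne ((w⁻¹).injective h)
      apply hw
      have h1 : ∀ x, (w⁻¹ : Equiv.Perm (Fin (n + 1))) x = x := by
        intro x
        have h : ∀ y, y ≤ (w⁻¹ : Equiv.Perm (Fin (n + 1))) y := fun y => StrictMono.id_le hmono y
        have hsum : ∑ y : Fin (n + 1), ((w⁻¹ : Equiv.Perm (Fin (n + 1))) y : ℕ) = ∑ y : Fin (n + 1), (y : ℕ) :=
          Equiv.sum_comp (w⁻¹ : Equiv.Perm (Fin (n + 1))) (fun y : Fin (n + 1) => (y : ℕ))
        have hle : ∀ y ∈ (Finset.univ : Finset (Fin (n + 1))), (y : ℕ) ≤ ((w⁻¹ : Equiv.Perm (Fin (n + 1))) y : ℕ) :=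
          fun y _ => h y
        exact Fin.ext ((Finset.sum_eq_sum_iff_of_le hle).mp hsum.symm x (Finset.mem_univ x)).symm
      rw [← inv_eq_one]
      exact Equiv.ext h1
    set a := i.castSucc with ha
    set b := i.succ with hb
    set j := w⁻¹ b with hj
    set k := w⁻¹ a with hk
    have hab : a < b := Fin.castSucc_lt_succ
    have hwj : w j = b := by rw [hj]; exact w.apply_symm_apply b
    have hwk : w k = a := by rw [hk]; exact w.apply_symm_apply a
    have hlow : ∀ c : F, tvU hab.ne' c ∈ K := by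
      intro c
      have h := K.mul_mem (K.mul_mem hmem
        (tvU_upper_mem K hU hi (((d b : F) / (d a : F))⁻¹ * c))) (K.inv_mem hmem)
      rw [monU_tvU, mul_inv_cancel_right] at h
      convert h using 2
      · exact hwj.symm
      · exact hwk.symm
      · rw [hwj, hwk, ← mul_assoc, mul_inv_cancel₀
          (div_ne_zero (Units.ne_zero _) (Units.ne_zero _)), one_mul]
    set s := Equiv.swap a b
    have hs : permGL (n + 1) F s ∈ K := by
      rw [swap_eq_tvU hab.ne]
      exact K.mul_mem (K.mul_mem (tvU_upper_mem K hU hab 1) (hlow 1)) (tvU_upper_mem K hU hab 1)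
    have hse : diagU e * permGL (n + 1) F s * (diagU e)⁻¹ ∈ K := by
      have h3 : diagU e * (tvU hab.ne (1 : F) * tvU hab.ne' 1 * tvU hab.ne 1) * (diagU e)⁻¹ =
          (diagU e * tvU hab.ne (1 : F) * (diagU e)⁻¹) * (diagU e * tvU hab.ne' 1 * (diagU e)⁻¹) *
            (diagU e * tvU hab.ne 1 * (diagU e)⁻¹) := by group
      rw [swap_eq_tvU hab.ne, h3, diagU_tvU, diagU_tvU]
      exact K.mul_mem (K.mul_mem (tvU_upper_mem K hU hab _) (hlow _)) (tvU_upper_mem K hU hab _)
    have hprod : permGL (n + 1) F s * monU d w = monU (d ∘ s) (s * w) := by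
      apply Units.ext
      ext x y
      rw [Units.val_mul, permGL_mul, monU_apply, monU_apply]
      have hs' : s⁻¹ = s := Equiv.swap_inv _ _
      rw [hs']
      simp only [Equiv.Perm.mul_apply, Function.comp_apply]
      have : (s (w y) = x) ↔ (w y = s x) := by
        constructor
        · rintro rfl; exact (Equiv.swap_apply_self _ _ _).symm
        · intro h; rw [h]; exact Equiv.swap_apply_self _ _ _
      simp only [this]
    have hmem' : monU (d ∘ s) (s * w) ∈ K := by rw [← hprod]; exact K.mul_mem hs hmem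
    have hlt : (n + 1) * (n + 1) * (n + 1) - ∑ x : Fin (n + 1), (x : ℕ) * ((s * w) x : ℕ) < m := by
      have hjk : (j : ℕ) < k := hi
      have hne : j ≠ k := hi.ne
      have hbound : ∑ x : Fin (n + 1), (x : ℕ) * ((s * w) x : ℕ) ≤ (n + 1) * (n + 1) * (n + 1) := by
        refine le_trans (Finset.sum_le_card_nsmul _ _ ((n + 1) * (n + 1)) fun x _ =>
          Nat.mul_le_mul x.2.le ((s * w) x).2.le) ?_
        simp [mul_assoc]
      have hsplit : ∀ u : Equiv.Perm (Fin (n + 1)), ∑ x : Fin (n + 1), (x : ℕ) * (u x : ℕ) =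
          (j : ℕ) * (u j : ℕ) + (k : ℕ) * (u k : ℕ) +
            ∑ x ∈ (Finset.univ.erase j).erase k, (x : ℕ) * (u x : ℕ) := by
        intro u
        rw [add_assoc, Finset.add_sum_erase _ (fun x : Fin (n + 1) => (x : ℕ) * (u x : ℕ))
            (by simp [hne.symm] : k ∈ Finset.univ.erase j),
          Finset.add_sum_erase _ (fun x : Fin (n + 1) => (x : ℕ) * (u x : ℕ)) (Finset.mem_univ j)]
      have hrest : ∑ x ∈ (Finset.univ.erase j).erase k, (x : ℕ) * ((s * w) x : ℕ) =
          ∑ x ∈ (Finset.univ.erase j).erase k, (x : ℕ) * (w x : ℕ) := by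
        refine Finset.sum_congr rfl fun x hx => ?_
        simp only [Finset.mem_erase, Finset.mem_univ, and_true] at hx
        rw [Equiv.Perm.mul_apply, Equiv.swap_apply_of_ne_of_ne]
        · exact fun h => hx.1 (w.injective (h.trans hwk.symm))
        · exact fun h => hx.2 (w.injective (h.trans hwj.symm))
      have e1 : ((s * w) j : ℕ) = (a : ℕ) := by
        rw [Equiv.Perm.mul_apply, hwj, Equiv.swap_apply_right]
      have e2 : ((s * w) k : ℕ) = (b : ℕ) := by
        rw [Equiv.Perm.mul_apply, hwk, Equiv.swap_apply_left]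
      have e3 : (w j : ℕ) = (b : ℕ) := by rw [hwj]
      have e4 : (w k : ℕ) = (a : ℕ) := by rw [hwk]
      have hab' : (b : ℕ) = (a : ℕ) + 1 := by simp [ha, hb]
      have hgt : ∑ x : Fin (n + 1), (x : ℕ) * (w x : ℕ) < ∑ x : Fin (n + 1), (x : ℕ) * ((s * w) x : ℕ) := by
        rw [hsplit w, hsplit (s * w), hrest, e1, e2, e3, e4, hab', Nat.mul_succ, Nat.mul_succ]
        omega
      simp only [Nat.succ_eq_add_one] at hm
      omega
    have hih := ih _ hlt (d ∘ s) (s * w) rfl hmem' e
    have hfin : diagU e * monU d w * (diagU e)⁻¹ =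
        (diagU e * permGL (n + 1) F s * (diagU e)⁻¹)⁻¹ *
          (diagU e * monU (d ∘ s) (s * w) * (diagU e)⁻¹) := by
      rw [← hprod]; group
    rw [hfin]
    exact K.mul_mem (K.inv_mem hse) hih

/-- A decomposition of an invertible upper triangular matrix. -/
theorem exists_diag_uni (p : GL (Fin n) F) (hp : (p : Matrix (Fin n) (Fin n) F).BlockTriangular id) :
    ∃ d : Fin n → Fˣ,
      ((↑(p * (diagU d)⁻¹) : Matrix (Fin n) (Fin n) F).BlockTriangular id ∧
        ∀ i, (↑(p * (diagU d)⁻¹) : Matrix (Fin n) (Fin n) F) i i = 1) ∧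
      ((↑((diagU d)⁻¹ * p) : Matrix (Fin n) (Fin n) F).BlockTriangular id ∧
        ∀ i, (↑((diagU d)⁻¹ * p) : Matrix (Fin n) (Fin n) F) i i = 1) := by
  have hne : ∀ i, (p : Matrix (Fin n) (Fin n) F) i i ≠ 0 := by
    intro i h
    apply (Matrix.GeneralLinearGroup.det p).ne_zero
    rw [Matrix.GeneralLinearGroup.val_det_apply, Matrix.det_of_isUpperTriangular hp]
    exact Finset.prod_eq_zero (Finset.mem_univ i) h
  refine ⟨fun i => Units.mk0 _ (hne i), ⟨?_, ?_⟩, ⟨?_, ?_⟩⟩
  · rw [Units.val_mul, coe_diagU_inv]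
    exact hp.mul (Matrix.blockTriangular_diagonal _)
  · intro i
    rw [Units.val_mul, coe_diagU_inv, Matrix.mul_diagonal]
    simp [hne i]
  · rw [Units.val_mul, coe_diagU_inv]
    exact (Matrix.blockTriangular_diagonal _).mul hp
  · intro i
    rw [Units.val_mul, coe_diagU_inv, Matrix.diagonal_mul]
    simp [hne i]

/-- `K` is normalised by upper triangular matrices. -/
theorem upper_conj_mem [CharP F 2] (b : GL (Fin n) F)
    (hb : (b : Matrix (Fin n) (Fin n) F).BlockTriangular id) {h : GL (Fin n) F} (hh : h ∈ K) :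
    b * h * b⁻¹ ∈ K := by
  have hconjU : ∀ (e : Fin n → Fˣ) (v : GL (Fin n) F), (v : Matrix (Fin n) (Fin n) F).BlockTriangular id →
      (∀ i, (v : Matrix (Fin n) (Fin n) F) i i = 1) → diagU e * v * (diagU e)⁻¹ ∈ K := by
    intro e v hv hv1
    apply hU
    · rw [Units.val_mul, Units.val_mul, coe_diagU, coe_diagU_inv]
      exact ((Matrix.blockTriangular_diagonal _).mul hv).mul (Matrix.blockTriangular_diagonal _)
    · intro i
      rw [Units.val_mul, Units.val_mul, coe_diagU, coe_diagU_inv, Matrix.mul_diagonal,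
        Matrix.diagonal_mul, hv1, mul_one]
      exact Units.mul_inv (e i)
  obtain ⟨e, ⟨he1, he2⟩, -⟩ := exists_diag_uni K hU b hb
  have he := hU _ he1 he2
  suffices hd : diagU e * h * (diagU e)⁻¹ ∈ K by
    have h2 := K.mul_mem (K.mul_mem he hd) (K.inv_mem he)
    have e2 : b * (diagU e)⁻¹ * (diagU e * h * (diagU e)⁻¹) * (b * (diagU e)⁻¹)⁻¹ = b * h * b⁻¹ := by
      group
    rwa [e2] at h2
  obtain ⟨p, q, w, hp, hq, rfl⟩ := exists_bruhat h
  obtain ⟨dp, ⟨hp1, hp2⟩, -⟩ := exists_diag_uni K hU p hp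
  obtain ⟨dq, -, hq1, hq2⟩ := exists_diag_uni K hU q hq
  set d := dp * (dq ∘ ⇑(w⁻¹ : Equiv.Perm (Fin n))) with hd
  have hmon : diagU dp * permGL n F w * diagU dq = monU d w := by
    apply Units.ext
    ext x y
    rw [Units.val_mul, Units.val_mul, coe_diagU, coe_diagU, Matrix.mul_diagonal, Matrix.diagonal_mul,
      permGL_apply, monU_apply]
    by_cases hxy : w y = x
    · subst hxy
      simp [hd]
    · simp [hxy]
  set u := p * (diagU dp)⁻¹ with hu
  set u' := (diagU dq)⁻¹ * q with hu'
  have heq : p * permGL n F w * q = u * monU d w * u' := by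
    rw [← hmon, hu, hu']; group
  have hmem : monU d w ∈ K := by
    have h2 := K.mul_mem (K.mul_mem (K.inv_mem (hU u hp1 hp2)) hh) (K.inv_mem (hU u' hq1 hq2))
    rw [heq] at h2
    have e2 : ∀ M : GL (Fin n) F, u⁻¹ * (u * M * u') * u'⁻¹ = M := fun M => by group
    rwa [e2] at h2
  have e3 : diagU e * (p * permGL n F w * q) * (diagU e)⁻¹ =
      (diagU e * u * (diagU e)⁻¹) * (diagU e * monU d w * (diagU e)⁻¹) *
        (diagU e * u' * (diagU e)⁻¹) := by
    rw [heq]; group
  rw [e3]
  exact K.mul_mem (K.mul_mem (hconjU e u hp1 hp2) (diag_conj_monU K hU _ _ _ rfl hmem e))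
    (hconjU e u' hq1 hq2)

end

end CfsgLib.PronormalPSL
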