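import Cfsg.Agent.Lib.PSL2Sub.PSL
import Cfsg.Agent.Lib.Linear.Simple
import Cfsg.Agent.Lib.SymTwo.Pronormal
import Cfsg.Prelude.Def_HallClasses

/-! Odd index subgroups of `PSL₂(q)`, `q` odd, are pronormal. -/

set_option autoImplicit false
set_option linter.style.haveILetI false
set_option linter.unusedSectionVars false

namespace CfsgLib.PronormalPSL

open Matrix OnePoint CfsgLib.PSL2Sub

/-- Pronormality may be tested on the normaliser of a Sylow subgroup. -/
theorem pronormal_of_normalizer_conj {G : Type*} [Group G] [Finite G] {p : ℕ} [Fact p.Prime]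
    (P : Sylow p G) (H : Subgroup G) (hPH : (P : Subgroup G) ≤ H)
    (hN : ∀ n ∈ Subgroup.normalizer ((P : Subgroup G) : Set G),
      ∃ x ∈ H ⊔ H.map (MulAut.conj n).toMonoidHom,
        H.map (MulAut.conj n).toMonoidHom = H.map (MulAut.conj x).toMonoidHom) :
    Cfsg.IsPronormal H := by
  intro g
  set K := H ⊔ H.map (MulAut.conj g).toMonoidHom
  have h1 : (P : Subgroup G) ≤ K := hPH.trans le_sup_left
  have h2 : ((g • P : Sylow p G) : Subgroup G) ≤ K := by
    rintro x ⟨y, hy, rfl⟩
    exact (le_sup_right : _ ≤ K) ⟨y, hPH hy, rfl⟩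
  obtain ⟨k, hk⟩ := MulAction.exists_smul_eq K ((g • P).subtype h2) (P.subtype h1)
  rw [Sylow.smul_subtype] at hk
  have hkg : ((k : G) * g) • P = P := by
    rw [mul_smul]; exact Sylow.subtype_injective hk
  have hmem : (k : G) * g ∈ Subgroup.normalizer ((P : Subgroup G) : Set G) :=
    Sylow.smul_eq_iff_mem_normalizer.mp hkg
  obtain ⟨x, hx, hxe⟩ := hN _ hmem
  have hxK : x ∈ K := by
    refine (sup_le (le_sup_left : H ≤ K) ?_) hx
    rintro _ ⟨y, hy, rfl⟩
    have hgy : g * y * g⁻¹ ∈ K := (le_sup_right : _ ≤ K) ⟨y, hy, rfl⟩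
    show (k : G) * g * y * ((k : G) * g)⁻¹ ∈ K
    rw [show (k : G) * g * y * ((k : G) * g)⁻¹ = k * (g * y * g⁻¹) * (k : G)⁻¹ by group]
    exact K.mul_mem (K.mul_mem k.2 hgy) (K.inv_mem k.2)
  refine ⟨(k : G)⁻¹ * x, K.mul_mem (K.inv_mem k.2) hxK, ?_⟩
  have hcomp : ∀ a b : G, H.map (MulAut.conj (a * b)).toMonoidHom =
      (H.map (MulAut.conj b).toMonoidHom).map (MulAut.conj a).toMonoidHom := by
    intro a b
    rw [Subgroup.map_map]
    congr 1
    ext y
    simp [mul_assoc]
  have e : g = (k : G)⁻¹ * ((k : G) * g) := by group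
  conv_lhs => rw [e, hcomp, hxe, ← hcomp]

theorem central_dihedral_unique {k : ℕ} (hk : 3 ≤ k) {a b : DihedralGroup k}
    (ha : ∀ c, a * c = c * a) (hb : ∀ c, b * c = c * b) (ha1 : a ≠ 1) (hb1 : b ≠ 1) : a = b := by
  haveI : NeZero k := ⟨by omega⟩
  have key : ∀ a : DihedralGroup k, (∀ c, a * c = c * a) → a ≠ 1 →
      ∃ i : ZMod k, a = DihedralGroup.r i ∧ 2 * i.val = k := by
    intro a ha ha1
    rcases a with i | i
    · have h := ha (DihedralGroup.sr 0)
      rw [DihedralGroup.r_mul_sr, DihedralGroup.sr_mul_r, DihedralGroup.sr.injEq] at h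
      have hi : i ≠ 0 := fun h0 => ha1 (by rw [h0]; rfl)
      have h2 : ((2 * i.val : ℕ) : ZMod k) = 0 := by
        push_cast
        rw [ZMod.natCast_zmod_val]
        linear_combination -h
      rw [ZMod.natCast_eq_zero_iff] at h2
      have hlt := i.val_lt
      have hpos : i.val ≠ 0 := fun h0 => hi ((ZMod.val_eq_zero i).mp h0)
      refine ⟨i, rfl, ?_⟩
      obtain ⟨c, hc⟩ := h2
      rcases c with _ | _ | c
      · omega
      · omega
      · rw [Nat.mul_succ, Nat.mul_succ] at hc; omega
    · exfalso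
      have h := ha (DihedralGroup.r 1)
      rw [DihedralGroup.sr_mul_r, DihedralGroup.r_mul_sr, DihedralGroup.sr.injEq] at h
      have h2 : ((2 : ℕ) : ZMod k) = 0 := by push_cast; linear_combination h
      rw [ZMod.natCast_eq_zero_iff] at h2
      have := Nat.le_of_dvd (by norm_num) h2
      omega
  obtain ⟨i, rfl, hi⟩ := key a ha ha1
  obtain ⟨j, rfl, hj⟩ := key b hb hb1
  congr 1
  exact ZMod.val_injective _ (by omega)

theorem noncomm_alt_four : ∃ a b : alternatingGroup (Fin 4), a * b ≠ b * a := by decide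

theorem noncomm_alt_five : ∃ a b : alternatingGroup (Fin 5), a * b ≠ b * a := by
  by_contra h
  push Not at h
  haveI : IsSimpleGroup (alternatingGroup (Fin 5)) := alternatingGroup.isSimpleGroup (by simp)
  letI : CommGroup (alternatingGroup (Fin 5)) :=
    { (inferInstance : Group (alternatingGroup (Fin 5))) with mul_comm := h }
  have hp := IsSimpleGroup.prime_card (α := alternatingGroup (Fin 5))
  rw [show Nat.card (alternatingGroup (Fin 5)) = 60 by
    rw [nat_card_alternatingGroup, Nat.card_fin]; rfl] at hp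
  norm_num at hp

variable {F : Type*} [Field F] [Fintype F] [DecidableEq F] (p : ℕ) [hp : Fact p.Prime] [CharP F p]

/-- No two distinct commuting involutions fix a common point. -/
theorem eq_of_fix_same (h2 : (2 : F) ≠ 0) {x y : PG F} (hx : x * x = 1) (hy : y * y = 1)
    (hxy : x * y = y * x) (hx1 : x ≠ 1) (hy1 : y ≠ 1) {z : OnePoint F}
    (hxz : x • z = z) (hyz : y • z = z) : x = y := by
  obtain ⟨g, hg⟩ := exists_smul_infty z
  have key : ∀ w : PG F, w * w = 1 → w ≠ 1 → w • z = z → ∃ b, g⁻¹ * w * g = aff (-1) b := by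
    intro w hw hw1 hwz
    have hfix : (g⁻¹ * w * g) • (∞ : OnePoint F) = ∞ := by
      rw [mul_smul, mul_smul, hg, hwz, inv_smul_eq_iff, hg]
    obtain ⟨a, b, hab⟩ := exists_aff_of_fix_infty hfix
    have hsq : g⁻¹ * w * g * (g⁻¹ * w * g) = 1 := by
      calc g⁻¹ * w * g * (g⁻¹ * w * g) = g⁻¹ * (w * w) * g := by group
        _ = 1 := by rw [hw]; group
    rw [hab, aff_mul, ← aff_one_zero] at hsq
    obtain ⟨h1, h2'⟩ := aff_injective hsq
    have ha2 : (a : F) * a = 1 := by simpa using congrArg Units.val h1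
    rcases mul_self_eq_one_iff.mp ha2 with ha | ha
    · exfalso
      rw [ha, one_mul] at h2'
      have hb : b = 0 := by
        have : (2 : F) * b = 0 := by linear_combination h2'
        simpa [h2] using this
      rw [Units.ext (ha.trans Units.val_one.symm) , hb, aff_one_zero] at hab
      exact hw1 (by
        calc w = g * (g⁻¹ * w * g) * g⁻¹ := by group
          _ = 1 := by rw [hab]; group)
    · exact ⟨b, by rw [hab, show a = -1 from Units.ext (by simpa using ha)]⟩
  by_contra hne
  have hm1 : x * y ≠ 1 := fun h => hne (by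
    calc x = x * (y * y) := by rw [hy, mul_one]
      _ = y := by rw [← mul_assoc, h, one_mul])
  have hm : x * y * (x * y) = 1 := by
    calc x * y * (x * y) = x * (y * x) * y := by group
      _ = x * x * (y * y) := by rw [← hxy]; group
      _ = 1 := by rw [hx, hy, one_mul]
  obtain ⟨b, hb⟩ := key x hx hx1 hxz
  obtain ⟨c, hc⟩ := key y hy hy1 hyz
  obtain ⟨d, hd⟩ := key _ hm hm1 (by rw [mul_smul, hyz, hxz])
  have e : g⁻¹ * (x * y) * g = g⁻¹ * x * g * (g⁻¹ * y * g) := by group
  rw [e, hb, hc, aff_mul] at hd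
  have h1 : (1 : F) = -1 := by simpa using congrArg Units.val (aff_injective hd).1
  exact h2 (by linear_combination h1)

theorem card_PS (h2 : (2 : F) ≠ 0) :
    2 * Nat.card (PS F) = Fintype.card F * (Fintype.card F ^ 2 - 1) := by
  have h := CfsgLib.Linear.card_PSL_mul (n := Fin 2) (F := F)
  rw [CfsgLib.Linear.card_SL_two, Fintype.card_fin] at h
  rw [← h]
  congr 1
  have hodd : Fintype.card F % 2 = 1 :=
    FiniteField.odd_card_of_char_ne_two (fun h => h2 (by
      haveI : CharP F 2 := ringChar.of_eq h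
      exact CharTwo.two_eq_zero))
  rw [Nat.gcd_eq_left (by omega : 2 ∣ Fintype.card F - 1)]

theorem odd_card (h2 : (2 : F) ≠ 0) : Fintype.card F % 2 = 1 :=
  FiniteField.odd_card_of_char_ne_two (fun h => h2 (by
    haveI : CharP F 2 := ringChar.of_eq h
    exact CharTwo.two_eq_zero))

theorem eight_dvd_of_odd {q : ℕ} (hq : q % 2 = 1) : 8 ∣ q ^ 2 - 1 := by
  obtain ⟨k, hk⟩ : ∃ k, q = 2 * k + 1 := ⟨q / 2, by omega⟩
  have hk2 : 2 ∣ k * (k + 1) := (Nat.even_mul_succ_self k).two_dvd
  rw [hk, show (2 * k + 1) ^ 2 - 1 = 4 * (k * (k + 1)) by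
    rw [show (2 * k + 1) ^ 2 = 4 * (k * (k + 1)) + 1 by ring]; omega]
  exact Nat.mul_dvd_mul_left 4 hk2

theorem four_dvd_card (h2 : (2 : F) ≠ 0) : 4 ∣ Nat.card (PS F) := by
  have h := card_PS (F := F) h2
  obtain ⟨c, hc⟩ := eight_dvd_of_odd (odd_card (F := F) h2)
  rw [hc] at h
  exact ⟨Fintype.card F * c, by rw [Nat.mul_left_comm] at h; omega⟩

include p in
/-- No element has order the full 2-part of the group order. -/
theorem not_dvd_orderOf (h2 : (2 : F) ≠ 0) {a : ℕ} (ha : 2 ≤ a)
    (hG : ¬ 2 ^ (a + 1) ∣ Nat.card (PS F)) (x : PS F) : ¬ 2 ^ a ∣ orderOf x := by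
  intro hx
  have hp2 : p ≠ 2 := fun h => h2 (by subst h; exact CharTwo.two_eq_zero)
  have hodd := odd_card (F := F) h2
  have hgcd : Nat.gcd 2 (Fintype.card F - 1) = 2 := Nat.gcd_eq_left (by omega)
  have hcard := card_PS (F := F) h2
  obtain ⟨u, hu⟩ : ∃ u, Fintype.card F = 2 * u + 1 := ⟨Fintype.card F / 2, by omega⟩
  have hN : Nat.card (PS F) = Fintype.card F * (u * (2 * (u + 1))) := by
    have : Fintype.card F ^ 2 - 1 = 2 * (u * (2 * (u + 1))) := by
      rw [hu, show (2 * u + 1) ^ 2 = 2 * (u * (2 * (u + 1))) + 1 by ring]; omega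
    rw [this, Nat.mul_left_comm] at hcard
    omega
  rcases CfsgLib.SL2Trace.psl_pow_cases p x with h | h | h
  · have h1 := hx.trans (orderOf_dvd_of_pow_eq_one h)
    have h2' : 2 ∣ p := (dvd_pow_self 2 (by omega : a ≠ 0)).trans h1
    exact hp2 ((Nat.prime_dvd_prime_iff_eq Nat.prime_two hp.out).mp h2').symm
  · rw [hgcd, show (Fintype.card F - 1) / 2 = u by omega] at h
    refine hG ?_
    rw [hN, pow_succ]
    refine Dvd.dvd.mul_left ?_ _
    exact Nat.mul_dvd_mul (hx.trans (orderOf_dvd_of_pow_eq_one h)) (Dvd.intro _ rfl)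
  · rw [hgcd, show (Fintype.card F + 1) / 2 = u + 1 by omega] at h
    refine hG ?_
    rw [hN, pow_succ', mul_comm u, mul_assoc]
    refine Dvd.dvd.mul_left (Nat.mul_dvd_mul_left _ ?_) _
    exact (hx.trans (orderOf_dvd_of_pow_eq_one h)).mul_right _

theorem noncomm_PS (E : Type*) [Field E] : ∃ a b : PS E, a * b ≠ b * a := by
  refine ⟨QuotientGroup.mk (SpecialLinearGroup.transvection (zero_ne_one' (Fin 2)) (1 : E)),
    QuotientGroup.mk (SpecialLinearGroup.transvection (zero_ne_one' (Fin 2)).symm (1 : E)), ?_⟩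
  intro h
  rw [← QuotientGroup.mk_mul, ← QuotientGroup.mk_mul, QuotientGroup.eq] at h
  obtain ⟨r, -, hr⟩ := Matrix.SpecialLinearGroup.mem_center_iff.mp h
  have h01 := congrFun (congrFun hr 0) 1
  simp [Matrix.adjugate_fin_two, Matrix.mul_apply, Fin.sum_univ_two, Matrix.vecHead,
    Matrix.vecTail, SpecialLinearGroup.transvection_coe, Matrix.single_apply, Matrix.one_apply] at h01

theorem ne_two_of_ne_zero (h2 : (2 : F) ≠ 0) : p ≠ 2 := fun h => h2 (by
  subst h; exact CharTwo.two_eq_zero)

theorem noncomm_transfer {G L : Type*} [Group G] [Group L] (he : Nonempty (G ≃* L))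
    (h : ∃ a b : L, a * b ≠ b * a) : ∃ a b : G, a * b ≠ b * a := by
  obtain ⟨e⟩ := he
  obtain ⟨a, b, hab⟩ := h
  exact ⟨e.symm a, e.symm b, fun h => hab (by simpa using congrArg e h)⟩

include p in
/-- Subgroups with a Klein four group, when the Sylow 2-subgroups have order four. -/
theorem klein_cases (h2 : (2 : F) ≠ 0) (h8 : ¬ 8 ∣ Nat.card (PS F)) (C : Subgroup (PS F))
    {x y : PS F} (hxC : x ∈ C) (hyC : y ∈ C) (hx : x * x = 1) (hy : y * y = 1)
    (hxy : x * y = y * x) (hx1 : x ≠ 1) (hy1 : y ≠ 1) (hne : x ≠ y) :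
    (∃ k, 2 ≤ k ∧ Nonempty (C ≃* DihedralGroup k)) ∨
      ((∃ a b : C, a * b ≠ b * a) ∧ (Nat.card C = 12 ∨ IsSimpleGroup C)) := by
  classical
  have hC8 : ¬ 8 ∣ Nat.card C := fun h => h8 (h.trans (Subgroup.card_subgroup_dvd_card C))
  rcases classify_psl p C with ⟨hc, -, -⟩ | ⟨k, hk, -, -, hd⟩ | ⟨-, z, hz⟩ | ⟨-, he⟩ | ⟨-, he⟩ |
    ⟨-, he⟩ | ⟨E, hE⟩
  · exfalso
    haveI := hc
    have h1 := IsCyclic.card_pow_eq_one_le (α := C) (n := 2) two_pos
    have hsub : ({1, ⟨x, hxC⟩, ⟨y, hyC⟩} : Finset C) ⊆ Finset.univ.filter fun a : C => a ^ 2 = 1 := by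
      intro a ha
      simp only [Finset.mem_insert, Finset.mem_singleton] at ha
      rw [Finset.mem_filter]
      refine ⟨Finset.mem_univ _, ?_⟩
      rcases ha with rfl | rfl | rfl
      · exact one_pow 2
      · exact Subtype.ext (by simpa [pow_two] using hx)
      · exact Subtype.ext (by simpa [pow_two] using hy)
    have h3 : ({1, ⟨x, hxC⟩, ⟨y, hyC⟩} : Finset C).card = 3 := by
      rw [Finset.card_eq_three]
      exact ⟨_, _, _, fun h => hx1 (congrArg Subtype.val h).symm,
        fun h => hy1 (congrArg Subtype.val h).symm, fun h => hne (congrArg Subtype.val h), rfl⟩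
    have := Finset.card_le_card hsub
    omega
  · exact Or.inl ⟨k, hk, hd⟩
  · exfalso
    have hinj : ∀ w : PS F, toPG w = 1 → w = 1 := fun w h => toPG_injective (h.trans (map_one _).symm)
    refine hne (toPG_injective (eq_of_fix_same h2 (x := toPG x) (y := toPG y) ?_ ?_ ?_
      (fun h => hx1 (hinj _ h)) (fun h => hy1 (hinj _ h)) (hz x hxC) (hz y hyC)))
    · rw [← map_mul, hx, map_one]
    · rw [← map_mul, hy, map_one]
    · rw [← map_mul, ← map_mul, hxy]
  · refine Or.inr ⟨noncomm_transfer he noncomm_alt_four, Or.inl ?_⟩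
    rw [Nat.card_congr he.some.toEquiv, nat_card_alternatingGroup, Nat.card_fin]
    rfl
  · exfalso
    apply hC8
    rw [Nat.card_congr he.some.toEquiv, Nat.card_perm, Nat.card_fin]
    decide
  · refine Or.inr ⟨noncomm_transfer he noncomm_alt_five, Or.inr ?_⟩
    haveI : IsSimpleGroup (alternatingGroup (Fin 5)) := alternatingGroup.isSimpleGroup (by simp)
    exact he.some.isSimpleGroup
  · letI := Fintype.ofFinite E
    haveI : CharP E p := (RingHom.charP_iff E.subtype Subtype.coe_injective p).mpr inferInstance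
    have hE2 : (2 : E) ≠ 0 := fun h => h2 (congrArg Subtype.val h)
    rcases hE with he | ⟨-, he⟩
    · exfalso
      apply hC8
      rw [Nat.card_congr he.some.toEquiv, CfsgLib.Linear.card_PGL, CfsgLib.Linear.card_SL_two]
      exact (eight_dvd_of_odd (odd_card (F := E) hE2)).mul_left _
    · refine Or.inr ⟨noncomm_transfer he (noncomm_PS E), ?_⟩
      have hodd := odd_card (F := E) hE2
      have h1 : 1 < Fintype.card E := Fintype.one_lt_card
      rcases (show Fintype.card E = 3 ∨ 4 ≤ Fintype.card E by omega) with h3 | h4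
      · left
        have h := card_PS (F := E) hE2
        rw [h3] at h
        rw [Nat.card_congr he.some.toEquiv]
        omega
      · right
        haveI := CfsgLib.Linear.isSimpleGroup_PSL_fin (F := E) 2 le_rfl
          (fun _ => by rw [Nat.card_eq_fintype_card]; exact h4)
        exact he.some.isSimpleGroup

include p in
/-- A Sylow 2-subgroup of order four of `PSL₂(q)` is a Klein group, equal to its centraliser. -/
theorem klein_sylow (h2 : (2 : F) ≠ 0) (h8 : ¬ 8 ∣ Nat.card (PS F)) (P : Sylow 2 (PS F)) :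
    ∃ x y : PS F, x ∈ P ∧ y ∈ P ∧ x * x = 1 ∧ y * y = 1 ∧ x * y = y * x ∧ x ≠ 1 ∧ y ≠ 1 ∧ x ≠ y ∧
      (∀ a ∈ P, a = 1 ∨ a = x ∨ a = y ∨ a = x * y) ∧ (∀ a ∈ P, a * a = 1) ∧
      Nat.card (P : Subgroup (PS F)) = 4 ∧
      (∀ g : PS F, g * x = x * g → g * y = y * g → g ∈ P) := by
  classical
  haveI : Fact (Nat.Prime 2) := ⟨Nat.prime_two⟩
  have hcard : Nat.card (P : Subgroup (PS F)) = 4 := by
    rw [P.card_eq_multiplicity]
    have hne : Nat.card (PS F) ≠ 0 := Nat.card_pos.ne'
    have h4 := (Nat.Prime.pow_dvd_iff_le_factorization Nat.prime_two hne (k := 2)).mp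
      (four_dvd_card (F := F) h2)
    have h3 : ¬ 3 ≤ (Nat.card (PS F)).factorization 2 := fun h => h8
      ((Nat.Prime.pow_dvd_iff_le_factorization Nat.prime_two hne (k := 3)).mpr h)
    rw [show (Nat.card (PS F)).factorization 2 = 2 by omega]
    rfl
  have hsq : ∀ a ∈ P, a * a = 1 := by
    intro a ha
    have h := Subgroup.orderOf_dvd_natCard (P : Subgroup (PS F)) ha
    rw [hcard] at h
    obtain ⟨i, hi, hi'⟩ := (Nat.dvd_prime_pow Nat.prime_two).mp (show orderOf a ∣ 2 ^ 2 by simpa using h)
    have hno : ¬ 2 ^ 2 ∣ orderOf a := not_dvd_orderOf p h2 le_rfl h8 a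
    have : orderOf a ∣ 2 := by
      rw [hi'] at hno ⊢
      rcases (show i = 0 ∨ i = 1 ∨ i = 2 by omega) with rfl | rfl | rfl
      · simp
      · simp
      · simp at hno
    rw [← pow_two]
    exact orderOf_dvd_iff_pow_eq_one.mp this
  have hPcard : Nat.card (P : Subgroup (PS F)) = ((P : Subgroup (PS F)) : Set (PS F)).ncard :=
    Nat.card_coe_set_eq _
  obtain ⟨x, hxP, hx1⟩ : ∃ x ∈ P, x ≠ 1 := by
    by_contra h
    push Not at h
    have : Nat.card (P : Subgroup (PS F)) ≤ 1 := by
      rw [hPcard]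
      exact (Set.ncard_le_ncard (t := {1}) (fun a ha => h a ha) (Set.toFinite _)).trans (by simp)
    omega
  obtain ⟨y, hyP, hy1, hne⟩ : ∃ y ∈ P, y ≠ 1 ∧ x ≠ y := by
    by_contra h
    push Not at h
    have : Nat.card (P : Subgroup (PS F)) ≤ 2 := by
      rw [hPcard]
      refine (Set.ncard_le_ncard (t := {1, x}) (fun a ha => ?_) (Set.toFinite _)).trans ?_
      · rcases eq_or_ne a 1 with rfl | ha1
        · simp
        · simp [(h a ha ha1).symm]
      · exact (Set.ncard_insert_le _ _).trans (by simp)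
    omega
  have hx := hsq x hxP
  have hy := hsq y hyP
  have hxi : x⁻¹ = x := inv_eq_of_mul_eq_one_right hx
  have hyi : y⁻¹ = y := inv_eq_of_mul_eq_one_right hy
  have hxy : x * y = y * x := by
    have h : (x * y)⁻¹ = x * y := inv_eq_of_mul_eq_one_right (hsq _ (P.1.mul_mem hxP hyP))
    rw [_root_.mul_inv_rev, hxi, hyi] at h
    exact h.symm
  have hall : ∀ a ∈ P, a = 1 ∨ a = x ∨ a = y ∨ a = x * y := by
    intro a ha
    have hsub : ({1, x, y, x * y} : Set (PS F)) ⊆ (P : Subgroup (PS F)) := by
      intro b hb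
      simp only [Set.mem_insert_iff, Set.mem_singleton_iff] at hb
      rcases hb with rfl | rfl | rfl | rfl
      exacts [one_mem _, hxP, hyP, P.1.mul_mem hxP hyP]
    have h4 : ({1, x, y, x * y} : Set (PS F)).ncard = 4 := by
      rw [Set.ncard_eq_toFinset_card']
      simp only [Set.toFinset_insert, Set.toFinset_singleton]
      rw [Finset.card_insert_of_notMem, Finset.card_insert_of_notMem, Finset.card_insert_of_notMem,
        Finset.card_singleton]
      · simpa using hx1
      · simp only [Finset.mem_insert, Finset.mem_singleton, not_or]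
        refine ⟨hne, fun h => hy1 ?_⟩
        simpa using h
      · simp only [Finset.mem_insert, Finset.mem_singleton, not_or]
        refine ⟨hx1.symm, hy1.symm, fun h => hne ?_⟩
        calc x = x * (x * y) := by rw [← h, mul_one]
          _ = y := by rw [← mul_assoc, hx, one_mul]
    have heq := Set.eq_of_subset_of_ncard_le hsub (by rw [h4, ← hPcard, hcard]) (Set.toFinite _)
    have : a ∈ ({1, x, y, x * y} : Set (PS F)) := by rw [heq]; exact ha
    simpa using this
  refine ⟨x, y, hxP, hyP, hx, hy, hxy, hx1, hy1, hne, hall, hsq, hcard, ?_⟩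
  intro g hgx hgy
  set C := Subgroup.centralizer ({x, y} : Set (PS F)) with hC
  have hgC : g ∈ C := Subgroup.mem_centralizer_iff.mpr (by
    rintro b (rfl | rfl)
    · exact hgx.symm
    · exact hgy.symm)
  have hPC : (P : Subgroup (PS F)) ≤ C := by
    intro a ha
    refine Subgroup.mem_centralizer_iff.mpr ?_
    intro b hb
    rcases hb with hb | hb
    all_goals rcases hall a ha with h | h | h | h
    all_goals rw [hb, h]
    · simp
    · exact hxy
    · calc x * (x * y) = x * (y * x) := by rw [hxy]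
        _ = x * y * x := by group
    · simp
    · exact hxy.symm
    · calc y * (x * y) = y * x * y := by group
        _ = x * y * y := by rw [hxy]
  have hxc : ∀ c : C, (⟨x, hPC hxP⟩ : C) * c = c * ⟨x, hPC hxP⟩ := fun c => Subtype.ext
    (Subgroup.mem_centralizer_iff.mp c.2 x (Or.inl rfl))
  have hyc : ∀ c : C, (⟨y, hPC hyP⟩ : C) * c = c * ⟨y, hPC hyP⟩ := fun c => Subtype.ext
    (Subgroup.mem_centralizer_iff.mp c.2 y (Or.inr rfl))
  rcases klein_cases p h2 h8 C (hPC hxP) (hPC hyP) hx hy hxy hx1 hy1 hne with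
    ⟨k, hk, ⟨e⟩⟩ | ⟨hnc, hs⟩
  · rcases (show k = 2 ∨ 3 ≤ k by omega) with rfl | hk3
    · have hCc : Nat.card C = 4 := by rw [Nat.card_congr e.toEquiv, DihedralGroup.nat_card]
      have hPCeq := Subgroup.eq_of_le_of_card_ge hPC (by rw [hCc, hcard])
      show g ∈ (P : Subgroup (PS F))
      rw [hPCeq]
      exact hgC
    · exfalso
      refine hne (congrArg Subtype.val (e.injective (central_dihedral_unique hk3
        (a := e ⟨x, hPC hxP⟩) (b := e ⟨y, hPC hyP⟩) (fun c => ?_) (fun c => ?_)
        (fun h => hx1 ?_) (fun h => hy1 ?_))))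
      · obtain ⟨c, rfl⟩ := e.surjective c
        rw [← map_mul, ← map_mul, hxc]
      · obtain ⟨c, rfl⟩ := e.surjective c
        rw [← map_mul, ← map_mul, hyc]
      · exact congrArg Subtype.val (e.injective (h.trans (map_one e).symm))
      · exact congrArg Subtype.val (e.injective (h.trans (map_one e).symm))
  · exfalso
    obtain ⟨a, b, hab⟩ := hnc
    have hV : (P : Subgroup (PS F)).subgroupOf C ≤ Subgroup.center C := by
      intro c hc
      rw [Subgroup.mem_center_iff]
      intro d
      have hd1 := congrArg Subtype.val (hxc d)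
      have hd2 := congrArg Subtype.val (hyc d)
      simp only [Subgroup.coe_mul] at hd1 hd2
      apply Subtype.ext
      rw [Subgroup.coe_mul, Subgroup.coe_mul]
      rcases hall _ (Subgroup.mem_subgroupOf.mp hc) with h | h | h | h <;> rw [h]
      · simp
      · exact hd1.symm
      · exact hd2.symm
      · rw [mul_assoc x y, hd2, ← mul_assoc, ← mul_assoc, hd1]
    have hVc : Nat.card ((P : Subgroup (PS F)).subgroupOf C) = 4 := by
      rw [Nat.card_congr (Subgroup.subgroupOfEquivOfLe hPC).toEquiv, hcard]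
    have hZ4 : 4 ≤ Nat.card (Subgroup.center C) :=
      hVc ▸ Subgroup.card_le_of_le hV
    rcases hs with h12 | hsimp
    · have hidx := Subgroup.card_mul_index (Subgroup.center C)
      rw [h12] at hidx
      have hle : (Subgroup.center C).index ≤ 3 := by nlinarith
      have hcyc : IsCyclic (C ⧸ Subgroup.center C) := by
        have hpos : (Subgroup.center C).index ≠ 0 := fun h => by rw [h, mul_zero] at hidx; omega
        rcases (show (Subgroup.center C).index = 1 ∨ (Subgroup.center C).index = 2 ∨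
            (Subgroup.center C).index = 3 by omega) with h | h | h
        · rw [Subgroup.index_eq_card] at h
          haveI := (Nat.card_eq_one_iff_unique.mp h).1
          infer_instance
        · rw [Subgroup.index_eq_card] at h
          exact isCyclic_of_prime_card h
        · rw [Subgroup.index_eq_card] at h
          haveI : Fact (Nat.Prime 3) := ⟨Nat.prime_three⟩
          exact isCyclic_of_prime_card h
      haveI := hcyc
      exact hab (((commutative_of_cyclic_center_quotient (QuotientGroup.mk' (Subgroup.center C))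
        (by rw [QuotientGroup.ker_mk'])) a b))
    · haveI := hsimp
      rcases Subgroup.Normal.eq_bot_or_eq_top (inferInstance : (Subgroup.center C).Normal) with h | h
      · rw [h, Subgroup.card_bot] at hZ4
        omega
      · exact hab (Subgroup.mem_center_iff.mp (h.symm ▸ Subgroup.mem_top b) a)

include p in
/-- The case of Klein four Sylow 2-subgroups. -/
theorem pronormal_klein (h2 : (2 : F) ≠ 0) (h8 : ¬ 8 ∣ Nat.card (PS F))
    (H : Subgroup (PS F)) (hH : Odd H.index) : Cfsg.IsPronormal H := by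
  classical
  haveI : Fact (Nat.Prime 2) := ⟨Nat.prime_two⟩
  obtain ⟨P, hP⟩ := CfsgLib.SymTwo.exists_sylow_le_of_not_dvd_index (p := 2) H
    (by rw [← even_iff_two_dvd, Nat.not_even_iff_odd]; exact hH)
  obtain ⟨x, y, hxP, hyP, hx, hy, hxy, hx1, hy1, hne, hall, hsq, hcard, hcentP⟩ := klein_sylow p h2 h8 P
  refine pronormal_of_normalizer_conj P H hP fun n hn => ?_
  set K := H ⊔ H.map (MulAut.conj n).toMonoidHom with hK
  have hnP : ∀ a ∈ P, n * a * n⁻¹ ∈ P := fun a ha => (Subgroup.mem_normalizer_iff.mp hn a).mp ha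
  have hPK : (P : Subgroup (PS F)) ≤ K := hP.trans le_sup_left
  -- if `n` lies in `K` we are done
  have done_mem : n ∈ K → ∃ z ∈ K, H.map (MulAut.conj n).toMonoidHom = H.map (MulAut.conj z).toMonoidHom :=
    fun h => ⟨n, h, rfl⟩
  -- a nontrivial element of `P` fixed by `n` forces `n ∈ P`
  have hfix : ∀ m ∈ Subgroup.normalizer ((P : Subgroup (PS F)) : Set (PS F)), ∀ z ∈ P, z ≠ 1 →
      m * z * m⁻¹ = z → m ∈ P := by
    intro m hm z hz hz1 hmz
    have hmP : ∀ a ∈ P, m * a * m⁻¹ ∈ P := fun a ha => (Subgroup.mem_normalizer_iff.mp hm a).mp ha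
    obtain ⟨w, hw, hw1, hwz, hgen⟩ : ∃ w ∈ P, w ≠ 1 ∧ w ≠ z ∧ (∀ a ∈ P, a = 1 ∨ a = z ∨ a = w ∨ a = z * w) := by
      rcases hall z hz with rfl | rfl | rfl | rfl
      · exact absurd rfl hz1
      · exact ⟨y, hyP, hy1, hne.symm, hall⟩
      · refine ⟨x, hxP, hx1, hne, fun a ha => ?_⟩
        rcases hall a ha with h | h | h | h <;> simp [h, hxy]
      · refine ⟨x, hxP, hx1, fun h => hy1 ?_, fun a ha => ?_⟩
        · simpa using h.symm
        rcases hall a ha with h | h | h | h
        · exact Or.inl h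
        · exact Or.inr (Or.inr (Or.inl h))
        · refine Or.inr (Or.inr (Or.inr ?_))
          rw [h, mul_assoc, ← hxy, ← mul_assoc, hx, one_mul]
        · exact Or.inr (Or.inl h)
    have hz2 := hsq z hz
    have hsq2 : m * m * w * (m * m)⁻¹ = w := by
      have h1 : m * m * w * (m * m)⁻¹ = m * (m * w * m⁻¹) * m⁻¹ := by group
      rw [h1]
      rcases hgen _ (hmP w hw) with h | h | h | h
      · exact absurd (conj_eq_one_iff.mp h) hw1
      · exfalso
        have := h.trans hmz.symm
        exact hwz (by simpa using this)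
      · rw [h, h]
      · rw [h, show m * (z * w) * m⁻¹ = m * z * m⁻¹ * (m * w * m⁻¹) by group, hmz, h, ← mul_assoc, hz2,
          one_mul]
    have hm2 : m * m ∈ P := by
      have hz' : m * m * z * (m * m)⁻¹ = z := by
        rw [show m * m * z * (m * m)⁻¹ = m * (m * z * m⁻¹) * m⁻¹ by group, hmz, hmz]
      have hcomm : ∀ a ∈ P, m * m * a = a * (m * m) := by
        intro a ha
        rw [← mul_inv_eq_iff_eq_mul]
        rcases hgen a ha with rfl | rfl | rfl | rfl
        · group
        · exact hz'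
        · exact hsq2
        · rw [show m * m * (z * w) * (m * m)⁻¹ = m * m * z * (m * m)⁻¹ * (m * m * w * (m * m)⁻¹) by group,
            hz', hsq2]
      exact hcentP _ (hcomm x hxP) (hcomm y hyP)
    have hp2 : IsPGroup 2 (Subgroup.zpowers m) := by
      have h4 : m ^ 4 = 1 := by
        rw [show m ^ 4 = m * m * (m * m) by simp [pow_succ, mul_assoc]]
        exact hsq _ hm2
      rintro ⟨_, k, rfl⟩
      refine ⟨2, Subtype.ext ?_⟩
      show (m ^ k) ^ 4 = 1
      rw [← zpow_natCast, ← _root_.zpow_mul, mul_comm, _root_.zpow_mul, zpow_natCast, h4, _root_.one_zpow]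
    have hsup := hp2.to_sup_of_normal_right' P.isPGroup' (Subgroup.zpowers_le.mpr hm)
    show m ∈ (P : Subgroup (PS F))
    rw [← P.is_maximal' hsup le_sup_right]
    exact Subgroup.mem_sup_left (Subgroup.mem_zpowers m)
  by_cases hnP' : n ∈ P
  · exact done_mem (hPK hnP')
  -- a central element of `K` in `P` gives `H = P`
  have hcentral : (∃ z ∈ P, z ≠ 1 ∧ ∀ k ∈ K, z * k = k * z) →
      ∃ u ∈ K, H.map (MulAut.conj n).toMonoidHom = H.map (MulAut.conj u).toMonoidHom := by
    rintro ⟨z, hz, hz1, hzc⟩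
    have hne' : n⁻¹ * z * n ≠ z := by
      intro h
      refine hnP' (hfix n hn z hz hz1 ?_)
      calc n * z * n⁻¹ = n * (n⁻¹ * z * n) * n⁻¹ := by rw [h]
        _ = z := by group
    have hz' : n⁻¹ * z * n ∈ P := by
      have := (Subgroup.mem_normalizer_iff.mp ((Subgroup.normalizer _).inv_mem hn) z).mp hz
      rw [inv_inv] at this
      exact this
    have hHP : H = P := by
      refine le_antisymm (fun h hh => ?_) hP
      have h1 : h * z = z * h := (hzc h ((le_sup_left : H ≤ K) hh)).symm
      have h2' : h * (n⁻¹ * z * n) = n⁻¹ * z * n * h := by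
        have h' := hzc (n * h * n⁻¹) ((le_sup_right : _ ≤ K) ⟨h, hh, rfl⟩)
        calc h * (n⁻¹ * z * n) = n⁻¹ * (n * h * n⁻¹ * z) * n := by group
          _ = n⁻¹ * (z * (n * h * n⁻¹)) * n := by rw [h']
          _ = _ := by group
      have hz'1 : n⁻¹ * z * n ≠ 1 := fun h0 => hz1 (by
        calc z = n * (n⁻¹ * z * n) * n⁻¹ := by group
          _ = 1 := by rw [h0]; group)
      have hsub : (P : Subgroup (PS F)) ≤ Subgroup.centralizer {h} := by
        set S := (P : Subgroup (PS F)) ⊓ Subgroup.centralizer {h} with hS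
        have hzS : z ∈ S := ⟨hz, Subgroup.mem_centralizer_singleton_iff.mpr h1.symm⟩
        have hz'S : n⁻¹ * z * n ∈ S := ⟨hz', Subgroup.mem_centralizer_singleton_iff.mpr h2'.symm⟩
        have h3 : 3 ≤ Nat.card S := by
          have hsub : ({1, z, n⁻¹ * z * n} : Finset (PS F)) ⊆ (S : Set (PS F)).toFinset := by
            intro a ha
            simp only [Finset.mem_insert, Finset.mem_singleton] at ha
            rw [Set.mem_toFinset]
            rcases ha with rfl | rfl | rfl
            exacts [S.one_mem, hzS, hz'S]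
          have h3 : ({1, z, n⁻¹ * z * n} : Finset (PS F)).card = 3 :=
            Finset.card_eq_three.mpr ⟨_, _, _, hz1.symm, hz'1.symm, hne'.symm, rfl⟩
          have := Finset.card_le_card hsub
          rw [Set.toFinset_card, ← Nat.card_eq_fintype_card, h3] at this
          exact this
        have hdvd := Subgroup.card_dvd_of_le (inf_le_left : S ≤ P)
        rw [hcard] at hdvd
        have h4 : Nat.card S = 4 := by
          have h5 : Nat.card S ≤ 4 := Nat.le_of_dvd (by norm_num) hdvd
          rcases (show Nat.card S = 3 ∨ Nat.card S = 4 by omega) with h | h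
          · rw [h] at hdvd; norm_num at hdvd
          · exact h
        rw [← Subgroup.eq_of_le_of_card_ge (inf_le_left : S ≤ P) (by rw [h4, hcard])]
        exact inf_le_right
      exact hcentP h (Subgroup.mem_centralizer_singleton_iff.mp (hsub hxP)).symm
        (Subgroup.mem_centralizer_singleton_iff.mp (hsub hyP)).symm
    refine ⟨1, K.one_mem, ?_⟩
    have : H.map (MulAut.conj n).toMonoidHom = H := by
      refine Subgroup.eq_of_le_of_card_ge ?_
        (Subgroup.card_map_of_injective (MulAut.conj n).injective).ge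
      rintro _ ⟨h, hh, rfl⟩
      rw [hHP] at hh ⊢
      exact hnP h hh
    rw [this]
    ext u
    simp
  by_cases hsolve : ∃ m ∈ K, m ∈ Subgroup.normalizer ((P : Subgroup (PS F)) : Set (PS F)) ∧ m ∉ P
  · obtain ⟨m, hmK, hm, hmP⟩ := hsolve
    refine done_mem ?_
    -- compare the images of `x`
    have him : ∀ l ∈ Subgroup.normalizer ((P : Subgroup (PS F)) : Set (PS F)), l ∉ P →
        l * x * l⁻¹ = y ∨ l * x * l⁻¹ = x * y := by
      intro l hl hlP
      rcases hall _ ((Subgroup.mem_normalizer_iff.mp hl x).mp hxP) with h | h | h | h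
      · exact absurd (conj_eq_one_iff.mp h) hx1
      · exact absurd (hfix l hl x hxP hx1 h) hlP
      · exact Or.inl h
      · exact Or.inr h
    have hm' : m⁻¹ ∈ Subgroup.normalizer ((P : Subgroup (PS F)) : Set (PS F)) :=
      (Subgroup.normalizer _).inv_mem hm
    have hm'P : m⁻¹ ∉ P := fun h => hmP (show m ∈ (P : Subgroup (PS F)) from inv_inv m ▸ P.1.inv_mem h)
    have hne2 : m * x * m⁻¹ ≠ m⁻¹ * x * m⁻¹⁻¹ := by
      intro h
      have hmm : m * m * x * (m * m)⁻¹ = x := by
        calc m * m * x * (m * m)⁻¹ = m * (m * x * m⁻¹) * m⁻¹ := by group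
          _ = x := by rw [h]; group
      have hm2 := hfix (m * m) (mul_mem hm hm) x hxP hx1 hmm
      have hp2 : IsPGroup 2 (Subgroup.zpowers m) := by
        have h4 : m ^ 4 = 1 := by
          rw [show m ^ 4 = m * m * (m * m) by simp [pow_succ, mul_assoc]]
          exact hsq _ hm2
        rintro ⟨_, k, rfl⟩
        refine ⟨2, Subtype.ext ?_⟩
        show (m ^ k) ^ 4 = 1
        rw [← zpow_natCast, ← _root_.zpow_mul, mul_comm, _root_.zpow_mul, zpow_natCast, h4, _root_.one_zpow]
      have hsup := hp2.to_sup_of_normal_right' P.isPGroup' (Subgroup.zpowers_le.mpr hm)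
      exact hmP (show m ∈ (P : Subgroup (PS F)) by rw [← P.is_maximal' hsup le_sup_right]; exact Subgroup.mem_sup_left (Subgroup.mem_zpowers m))
    have key : ∀ l ∈ Subgroup.normalizer ((P : Subgroup (PS F)) : Set (PS F)), l ∈ K →
        n * x * n⁻¹ = l * x * l⁻¹ → n ∈ K := by
      intro l hl hlK h
      have h' : l⁻¹ * n * x * (l⁻¹ * n)⁻¹ = x := by
        calc l⁻¹ * n * x * (l⁻¹ * n)⁻¹ = l⁻¹ * (n * x * n⁻¹) * l := by group
          _ = x := by rw [h]; group
      have := hfix _ (mul_mem ((Subgroup.normalizer _).inv_mem hl) hn) x hxP hx1 h'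
      simpa using K.mul_mem hlK (hPK this)
    rcases him n hn hnP' with hn' | hn' <;> rcases him m hm hmP with h1 | h1 <;>
      rcases him _ hm' hm'P with h3 | h3 <;>
      first
        | exact absurd (h1.trans h3.symm) hne2
        | exact key m hm hmK (hn'.trans h1.symm)
        | exact key _ hm' (K.inv_mem hmK) (hn'.trans h3.symm)
  push Not at hsolve
  -- Burnside transfer in `K`
  let PK : Sylow 2 K := P.subtype hPK
  have hcomm : Subgroup.normalizer ((PK : Subgroup K) : Set K) ≤ Subgroup.centralizer (PK : Set K) := by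
    intro m hm
    rw [Subgroup.mem_centralizer_iff]
    intro a ha
    have ha' : (a : PS F) ∈ P := ha
    have hm' : (m : PS F) ∈ P := by
      refine hsolve m m.2 (Subgroup.mem_normalizer_iff.mpr fun b => ?_)
      constructor
      · intro hb
        exact (Subgroup.mem_normalizer_iff.mp hm ⟨b, hPK hb⟩).mp hb
      · intro hb
        have hbK : b ∈ K := by
          have := K.mul_mem (K.mul_mem (K.inv_mem m.2) (hPK hb)) m.2
          convert this using 1
          group
        exact (Subgroup.mem_normalizer_iff.mp hm ⟨b, hbK⟩).mpr hb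
    apply Subtype.ext
    rw [Subgroup.coe_mul, Subgroup.coe_mul]
    rcases hall _ ha' with h | h | h | h <;> rcases hall _ hm' with h' | h' | h' | h' <;> rw [h, h'] <;>
      simp [hxy, mul_assoc] <;> simp [← mul_assoc, hxy]
  obtain ⟨M, hMn, hM⟩ : ∃ M : Subgroup K, M.Normal ∧ Subgroup.IsComplement' M (PK : Subgroup K) :=
    ⟨_, inferInstance, MonoidHom.ker_transferSylow_isComplement' PK hcomm⟩
  have hPKc : Nat.card (PK : Subgroup K) = 4 := by
    rw [← hcard]
    exact Nat.card_congr (Subgroup.subgroupOfEquivOfLe hPK).toEquiv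
  have hMc := hM.card_mul
  rw [hPKc] at hMc
  rcases klein_cases p h2 h8 K (hPK hxP) (hPK hyP) hx hy hxy hx1 hy1 hne with
    ⟨k, hk, ⟨e⟩⟩ | ⟨⟨a, b, hab⟩, hs⟩
  · rcases (show k = 2 ∨ 3 ≤ k by omega) with rfl | hk3
    · -- `K = P`
      have hKP : (P : Subgroup (PS F)) = K := Subgroup.eq_of_le_of_card_ge hPK
        (by rw [Nat.card_congr e.toEquiv, DihedralGroup.nat_card, hcard])
      have hHP : H = P := le_antisymm (le_sup_left.trans hKP.ge) hP
      refine ⟨1, K.one_mem, ?_⟩
      have : H.map (MulAut.conj n).toMonoidHom = H := by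
        refine Subgroup.eq_of_le_of_card_ge ?_
          (Subgroup.card_map_of_injective (MulAut.conj n).injective).ge
        rintro _ ⟨h, hh, rfl⟩
        rw [hHP] at hh ⊢
        exact hnP h hh
      rw [this]
      ext u
      simp
    · apply hcentral
      haveI : NeZero k := ⟨by omega⟩
      have hKc : Nat.card K = 2 * k := by rw [Nat.card_congr e.toEquiv, DihedralGroup.nat_card]
      have hkev : 2 ∣ k := by omega
      obtain ⟨j, rfl⟩ := hkev
      set zK : K := e.symm (DihedralGroup.r (j : ZMod (2 * j))) with hzK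
      have hjz : (j : ZMod (2 * j)) + j = 0 := by
        have : ((j + j : ℕ) : ZMod (2 * j)) = 0 := by rw [← two_mul]; exact ZMod.natCast_self _
        simpa using this
      have hzc : ∀ c : K, zK * c = c * zK := by
        intro c
        apply e.injective
        rw [map_mul, map_mul, hzK, MulEquiv.apply_symm_apply]
        rcases e c with i | i
        · rw [DihedralGroup.r_mul_r, DihedralGroup.r_mul_r, add_comm]
        · rw [DihedralGroup.r_mul_sr, DihedralGroup.sr_mul_r]
          congr 1
          linear_combination -hjz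
      have hz2 : zK * zK = 1 := by
        apply e.injective
        rw [map_mul, map_one, hzK, MulEquiv.apply_symm_apply, DihedralGroup.r_mul_r, hjz]
        rfl
      have hzne : zK ≠ 1 := by
        intro h
        have h' := congrArg e h
        rw [hzK, MulEquiv.apply_symm_apply, map_one, DihedralGroup.one_def, DihedralGroup.r.injEq,
          ZMod.natCast_eq_zero_iff] at h'
        have := Nat.le_of_dvd (by omega) h'
        omega
      have hzp : IsPGroup 2 (Subgroup.zpowers zK) :=
        IsPGroup.of_card (n := 1) (by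
          rw [Nat.card_zpowers, pow_one]
          exact orderOf_eq_prime (by rw [pow_two]; exact hz2) hzne)
      have hle : Subgroup.zpowers zK ≤ Subgroup.normalizer ((PK : Subgroup K) : Set K) := by
        rw [Subgroup.zpowers_le, Subgroup.mem_normalizer_iff]
        intro c
        rw [hzc, mul_inv_cancel_right]
      have hsup := hzp.to_sup_of_normal_right' PK.isPGroup' hle
      have hzPK : zK ∈ (PK : Subgroup K) := by
        rw [← PK.is_maximal' hsup le_sup_right]
        exact Subgroup.mem_sup_left (Subgroup.mem_zpowers zK)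
      exact ⟨zK, hzPK, fun h => hzne (Subtype.ext h), fun c hc => congrArg Subtype.val (hzc ⟨c, hc⟩)⟩
  · rcases hs with h12 | hsimp
    · apply hcentral
      have hM3 : Nat.card M = 3 := by omega
      have hMcyc : ∀ c ∈ M, ∀ d ∈ M, c ≠ 1 → d = 1 ∨ d = c ∨ d = c⁻¹ := by
        intro c hc d hd hc1
        haveI : Fact (Nat.Prime 3) := ⟨Nat.prime_three⟩
        have hc1' : (⟨c, hc⟩ : M) ≠ 1 := fun h => hc1 (congrArg Subtype.val h)
        have h3 : c ^ 3 = 1 := by
          have h := pow_card_eq_one' (x := (⟨c, hc⟩ : M))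
          rw [hM3] at h
          simpa using congrArg Subtype.val h
        obtain ⟨i, hi⟩ := Subgroup.mem_zpowers_iff.mp
          (mem_zpowers_of_prime_card (g' := (⟨d, hd⟩ : M)) hM3 hc1')
        have hi' : c ^ i = d := by simpa using congrArg Subtype.val hi
        have hc3 : c ^ (3 : ℤ) = 1 := by exact_mod_cast h3
        rw [← Int.emod_add_mul_ediv i 3, _root_.zpow_add, _root_.zpow_mul, hc3, _root_.one_zpow,
          mul_one] at hi'
        rcases (show i % 3 = 0 ∨ i % 3 = 1 ∨ i % 3 = 2 by omega) with h | h | h <;> rw [h] at hi'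
        · left; simpa using hi'.symm
        · right; left; simpa using hi'.symm
        · right; right
          rw [← hi', eq_inv_iff_mul_eq_one, ← _root_.zpow_add_one]
          exact hc3
      obtain ⟨c, hc, hc1⟩ : ∃ c : K, c ∈ M ∧ c ≠ 1 := by
        by_contra h
        push Not at h
        have : M = ⊥ := (Subgroup.eq_bot_iff_forall M).mpr h
        rw [this, Subgroup.card_bot] at hM3
        omega
      have hact : ∀ v : K, v * c * v⁻¹ = c ∨ v * c * v⁻¹ = c⁻¹ := by
        intro v
        rcases hMcyc c hc _ (hMn.conj_mem c hc v) hc1 with h | h | h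
        · exact absurd (conj_eq_one_iff.mp h) hc1
        · exact Or.inl h
        · exact Or.inr h
      obtain ⟨z, hz, hz1, hzc⟩ : ∃ z ∈ P, z ≠ 1 ∧ ∀ hzK : z ∈ K, (⟨z, hzK⟩ : K) * c = c * ⟨z, hzK⟩ := by
        rcases hact ⟨x, hPK hxP⟩ with h | h
        · exact ⟨x, hxP, hx1, fun _ => mul_inv_eq_iff_eq_mul.mp h⟩
        rcases hact ⟨y, hPK hyP⟩ with h' | h'
        · exact ⟨y, hyP, hy1, fun _ => mul_inv_eq_iff_eq_mul.mp h'⟩
        refine ⟨x * y, P.1.mul_mem hxP hyP, fun h0 => hne ?_, fun _ => ?_⟩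
        · calc x = x * (y * y) := by rw [hy, mul_one]
            _ = y := by rw [← mul_assoc, h0, one_mul]
        · apply mul_inv_eq_iff_eq_mul.mp
          show ((⟨x, hPK hxP⟩ * ⟨y, hPK hyP⟩ : K)) * c * (⟨x, hPK hxP⟩ * ⟨y, hPK hyP⟩ : K)⁻¹ = c
          rw [show ((⟨x, hPK hxP⟩ * ⟨y, hPK hyP⟩ : K)) * c * (⟨x, hPK hxP⟩ * ⟨y, hPK hyP⟩ : K)⁻¹ =
            (⟨x, hPK hxP⟩ : K) * ((⟨y, hPK hyP⟩ : K) * c * (⟨y, hPK hyP⟩ : K)⁻¹) * (⟨x, hPK hxP⟩ : K)⁻¹
            by group, h', show ∀ u : K, u * c⁻¹ * u⁻¹ = (u * c * u⁻¹)⁻¹ from fun u => by group, h, inv_inv]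
      refine ⟨z, hz, hz1, fun k hk => ?_⟩
      obtain ⟨⟨⟨m, hm⟩, ⟨v, hv⟩⟩, hmv⟩ := hM.2 ⟨k, hk⟩
      have e1 : (⟨z, hPK hz⟩ : K) * m = m * ⟨z, hPK hz⟩ := by
        rcases hMcyc c hc m hm hc1 with rfl | rfl | rfl
        · simp
        · exact hzc _
        · exact (Commute.inv_right (hzc (hPK hz))).eq
      have e2 : (⟨z, hPK hz⟩ : K) * v = v * ⟨z, hPK hz⟩ :=
        (Subgroup.mem_centralizer_iff.mp (hcomm (Subgroup.le_normalizer hv)) ⟨z, hPK hz⟩ hz)
      have : (⟨z, hPK hz⟩ : K) * (m * v) = (m * v) * ⟨z, hPK hz⟩ := by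
        rw [← mul_assoc, e1, mul_assoc, e2, ← mul_assoc]
      rw [show m * v = (⟨k, hk⟩ : K) from hmv] at this
      exact congrArg Subtype.val this
    · exfalso
      haveI := hsimp
      rcases hMn.eq_bot_or_eq_top with h | h
      · rw [h, Subgroup.card_bot] at hMc
        have hbot : (PK : Subgroup K) = ⊤ :=
          Subgroup.eq_top_of_card_eq _ (by rw [hPKc]; omega)
        have hall' : ∀ u : K, u ∈ (PK : Subgroup K) := fun u => by rw [hbot]; trivial
        exact hab (Subgroup.mem_centralizer_iff.mp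
          (hcomm (Subgroup.le_normalizer (hall' b))) a (hall' a))
      · rw [h, Subgroup.card_top] at hMc
        have : 0 < Nat.card K := Nat.card_pos
        omega

include p in
/-- If `8 ∣ |PSL₂(q)|` the Sylow 2-subgroups are self-normalising. -/
theorem sylow_self_normalizing_two (h2 : (2 : F) ≠ 0) (h8 : 8 ∣ Nat.card (PS F))
    (P : Sylow 2 (PS F)) : Subgroup.normalizer (P : Set (PS F)) ≤ P := by
  classical
  haveI : Fact (Nat.Prime 2) := ⟨Nat.prime_two⟩
  intro g hg
  set N := Subgroup.normalizer ((P : Subgroup (PS F)) : Set (PS F)) with hNdef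
  have hPN : (P : Subgroup (PS F)) ≤ N := Subgroup.le_normalizer
  let PN : Sylow 2 N := P.subtype hPN
  have hPNn : (PN : Subgroup N).Normal := Subgroup.normal_in_normalizer
  set v := (Nat.card (PS F)).factorization 2 with hv
  have hne : Nat.card (PS F) ≠ 0 := Nat.card_pos.ne'
  have hv3 : 3 ≤ v := (Nat.Prime.pow_dvd_iff_le_factorization Nat.prime_two hne).mp h8
  have hPc : Nat.card (P : Subgroup (PS F)) = 2 ^ v := P.card_eq_multiplicity
  have hPNc : Nat.card (PN : Subgroup N) = 2 ^ v := by
    rw [← hPc]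
    exact Nat.card_congr (Subgroup.subgroupOfEquivOfLe hPN).toEquiv
  have hnotgen : ∀ x : PS F, ¬ 2 ^ v ∣ orderOf x :=
    not_dvd_orderOf p h2 (a := v) (by omega) (fun h => by
      have := (Nat.Prime.pow_dvd_iff_le_factorization Nat.prime_two hne).mp h
      omega)
  have hnc : ∀ c : N, ∃ u ∈ (PN : Subgroup N), u ∉ Subgroup.zpowers c := by
    intro c
    by_contra h
    push Not at h
    haveI : IsCyclic (PN : Subgroup N) :=
      isCyclic_of_injective (Subgroup.inclusion h) (Subgroup.inclusion_injective h)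
    obtain ⟨u, hu⟩ := IsCyclic.exists_ofOrder_eq_natCard (α := (PN : Subgroup N))
    apply hnotgen ((u : N) : PS F)
    rw [Subgroup.orderOf_coe, Subgroup.orderOf_coe, hu, hPNc]
  -- every 2-element of `N` lies in `P`
  have h2el : ∀ c : N, (∃ m, c ^ 2 ^ m = 1) → c ∈ (PN : Subgroup N) := by
    rintro c ⟨m, hm⟩
    have hp : IsPGroup 2 (Subgroup.zpowers c) := by
      rintro ⟨_, k, rfl⟩
      refine ⟨m, Subtype.ext ?_⟩
      show (c ^ k) ^ 2 ^ m = 1
      rw [← zpow_natCast, ← _root_.zpow_mul, mul_comm, _root_.zpow_mul, zpow_natCast, hm, _root_.one_zpow]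
    have hle : Subgroup.zpowers c ≤ Subgroup.normalizer ((PN : Subgroup N) : Set N) := by
      rw [Subgroup.normalizer_eq_top (H := (PN : Subgroup N))]
      exact le_top
    have hsup := hp.to_sup_of_normal_right' PN.isPGroup' hle
    rw [← PN.is_maximal' hsup le_sup_right]
    exact Subgroup.mem_sup_left (Subgroup.mem_zpowers c)
  suffices hall : ∀ c : N, c ∈ (PN : Subgroup N) by exact hall ⟨g, hg⟩
  have hdvd8 : 8 ∣ Nat.card N := by
    refine (show 8 ∣ 2 ^ v from (Nat.pow_dvd_pow 2 hv3)).trans ?_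
    rw [← hPNc]
    exact Subgroup.card_subgroup_dvd_card _
  have hsimple : IsSimpleGroup N → (∃ a b : N, a * b ≠ b * a) → False := by
    intro hs ⟨a, b, hab⟩
    haveI := hs
    rcases hPNn.eq_bot_or_eq_top with h | h
    · rw [h, Subgroup.card_bot] at hPNc
      have : 2 ^ 3 ≤ 2 ^ v := Nat.pow_le_pow_right (by norm_num) hv3
      omega
    · -- a simple 2-group is abelian
      haveI : Nontrivial N := ⟨⟨a * b, b * a, hab⟩⟩
      have hpg : IsPGroup 2 N :=
        IsPGroup.of_card (n := v) (by rw [← hPNc, h, Subgroup.card_top])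
      haveI := hpg.center_nontrivial
      rcases Subgroup.Normal.eq_bot_or_eq_top (inferInstance : (Subgroup.center N).Normal) with hc | hc
      · exact (Subgroup.nontrivial_iff_ne_bot _).mp inferInstance hc
      · exact hab (Subgroup.mem_center_iff.mp (hc.symm ▸ Subgroup.mem_top b) a)
  rcases classify_psl p N with ⟨hc, -, -⟩ | ⟨k, hk, -, -, ⟨e⟩⟩ | ⟨-, z, hz⟩ | ⟨-, ⟨e⟩⟩ | ⟨-, ⟨e⟩⟩ |
    ⟨-, ⟨e⟩⟩ | ⟨E, hE⟩
  · exfalso
    haveI := hc
    obtain ⟨c, hc'⟩ := IsCyclic.exists_generator (α := N)
    obtain ⟨u, -, hu⟩ := hnc c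
    exact hu (hc' u)
  · -- dihedral
    haveI : NeZero k := ⟨by omega⟩
    obtain ⟨u, huP, hu⟩ := hnc (e.symm (DihedralGroup.r 1))
    obtain ⟨i, hi⟩ : ∃ i, e u = DihedralGroup.sr i := by
      rcases h : e u with i | i
      · exfalso
        apply hu
        refine Subgroup.mem_zpowers_iff.mpr ⟨(i.val : ℤ), ?_⟩
        apply e.injective
        rw [h, map_zpow, MulEquiv.apply_symm_apply, zpow_natCast, DihedralGroup.r_one_pow,
          ZMod.natCast_zmod_val]
      · exact ⟨i, rfl⟩
    have hu' : e.symm (DihedralGroup.r 1) * u * (e.symm (DihedralGroup.r 1))⁻¹ ∈ (PN : Subgroup N) :=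
      hPNn.conj_mem u huP _
    have hr2 : e.symm (DihedralGroup.r (2 : ZMod k)) ∈ (PN : Subgroup N) := by
      have h := (PN : Subgroup N).mul_mem hu' huP
      convert h using 1
      apply e.injective
      simp only [map_mul, map_inv, MulEquiv.apply_symm_apply, hi, DihedralGroup.r_mul_sr,
        DihedralGroup.inv_r, DihedralGroup.sr_mul_r, DihedralGroup.sr_mul_sr]
      congr 1
      ring
    obtain ⟨m, hm⟩ := PN.isPGroup' ⟨_, hr2⟩
    have hm' := congrArg e (congrArg Subtype.val hm)
    simp only [SubmonoidClass.coe_pow, map_pow, MulEquiv.apply_symm_apply, OneMemClass.coe_one,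
      map_one] at hm'
    have h2k : ((2 * 2 ^ m : ℕ) : ZMod k) = 0 := by
      have h' : (DihedralGroup.r (1 : ZMod k)) ^ (2 * 2 ^ m) = 1 := by
        rw [pow_mul, DihedralGroup.r_one_pow]
        simpa using hm'
      rw [DihedralGroup.r_one_pow, DihedralGroup.one_def, DihedralGroup.r.injEq] at h'
      exact h'
    rw [ZMod.natCast_eq_zero_iff, ← pow_succ'] at h2k
    obtain ⟨j, -, hj⟩ := (Nat.dvd_prime_pow Nat.prime_two).mp h2k
    intro c
    refine h2el c ⟨j + 1, ?_⟩
    have h := pow_card_eq_one' (x := c)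
    rwa [Nat.card_congr e.toEquiv, DihedralGroup.nat_card, hj, ← pow_succ'] at h
  · -- Borel
    exfalso
    haveI : Nontrivial (PN : Subgroup N) := by
      rw [← Finite.one_lt_card_iff_nontrivial, hPNc]
      exact Nat.one_lt_two_pow (by omega)
    haveI := PN.isPGroup'.center_nontrivial
    obtain ⟨w, hw, hw1⟩ : ∃ w : (PN : Subgroup N), w ∈ Subgroup.center _ ∧ orderOf w = 2 := by
      obtain ⟨w, hw⟩ := exists_prime_orderOf_dvd_card' (G := Subgroup.center (PN : Subgroup N)) 2 (by
        obtain ⟨c, hc⟩ := ((PN.isPGroup').to_subgroup (Subgroup.center (PN : Subgroup N))).exists_card_eq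
        rw [hc]
        refine dvd_pow_self 2 ?_
        rintro rfl
        have := Finite.one_lt_card (α := Subgroup.center (PN : Subgroup N))
        rw [hc] at this
        simp at this)
      exact ⟨w.1, w.2, (Subgroup.orderOf_coe w).trans hw⟩
    -- all involutions of `P` fix `z`, so there is only one
    have huniq : ∀ u : (PN : Subgroup N), orderOf u = 2 → u = w := by
      intro u hu
      by_contra hne'
      have sq : ∀ t : (PN : Subgroup N), orderOf t = 2 → t * t = 1 ∧ t ≠ 1 := fun t ht => by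
        refine ⟨?_, fun h => ?_⟩
        · have := pow_orderOf_eq_one t
          rw [ht] at this
          rwa [pow_two] at this
        rw [h, orderOf_one] at ht
        omega
      let φ : (PN : Subgroup N) →* PG F := toPG.comp (N.subtype.comp (PN : Subgroup N).subtype)
      have hφ : Function.Injective φ :=
        toPG_injective.comp (N.subtype_injective.comp (PN : Subgroup N).subtype_injective)
      refine hne' (hφ (eq_of_fix_same h2 (x := φ u) (y := φ w) ?_ ?_ ?_ ?_ ?_
        (hz _ ((u : N)).2) (hz _ ((w : N)).2)))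
      · rw [← map_mul, (sq u hu).1, map_one]
      · rw [← map_mul, (sq w hw1).1, map_one]
      · rw [← map_mul, ← map_mul, (Subgroup.mem_center_iff.mp hw u)]
      · exact fun h => (sq u hu).2 (hφ (h.trans (map_one φ).symm))
      · exact fun h => (sq w hw1).2 (hφ (h.trans (map_one φ).symm))
    -- then the quotient by the unipotent part embeds `P` in the multiplicative group
    obtain ⟨γ, hγ⟩ := exists_smul_infty z
    have hfix : ∀ u : (PN : Subgroup N),
        (γ⁻¹ * toPG ((u : N) : PS F) * γ) • (∞ : OnePoint F) = ∞ := by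
      intro u
      rw [mul_smul, mul_smul, hγ, hz _ (u : N).2, inv_smul_eq_iff, hγ]
    choose aOf bOf hab using fun u => exists_aff_of_fix_infty (hfix u)
    let ψ : (PN : Subgroup N) →* Fˣ := MonoidHom.mk' aOf (fun u t => by
      have h := hab (u * t)
      have e : γ⁻¹ * toPG (((u * t : (PN : Subgroup N)) : N) : PS F) * γ =
          γ⁻¹ * toPG ((u : N) : PS F) * γ * (γ⁻¹ * toPG ((t : N) : PS F) * γ) := by
        rw [Subgroup.coe_mul, Subgroup.coe_mul, map_mul]
        group
      rw [e, hab u, hab t, aff_mul] at h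
      exact (aff_injective h).1.symm)
    have hψ : Function.Injective ψ := by
      rw [injective_iff_map_eq_one]
      intro u hu
      have hau : aOf u = 1 := hu
      have h := hab u
      rw [hau] at h
      have hord : orderOf (γ⁻¹ * toPG ((u : N) : PS F) * γ) = orderOf u := by
        have e1 : orderOf (γ⁻¹ * toPG ((u : N) : PS F) * γ) = orderOf (toPG ((u : N) : PS F)) := by
          have := orderOf_injective (MulAut.conj γ⁻¹).toMonoidHom (MulAut.conj γ⁻¹).injective
            (toPG ((u : N) : PS F))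
          simpa using this
        rw [e1, orderOf_injective toPG toPG_injective, Subgroup.orderOf_coe, Subgroup.orderOf_coe]
      rw [h] at hord
      have hp1 : orderOf (aff (1 : Fˣ) (bOf u)) ∣ p :=
        orderOf_dvd_of_pow_eq_one (by rw [aff_translation_pow, CharP.cast_eq_zero, zero_mul, aff_one_zero])
      rw [hord] at hp1
      obtain ⟨m, hm⟩ := PN.isPGroup' u
      obtain ⟨j, -, hj⟩ := (Nat.dvd_prime_pow Nat.prime_two).mp (orderOf_dvd_of_pow_eq_one hm)
      rcases (Nat.dvd_prime hp.out).mp hp1 with h' | h'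
      · exact orderOf_eq_one_iff.mp h'
      · exfalso
        have : p ∣ 2 ^ j := by rw [← hj, h']
        exact ne_two_of_ne_zero p h2 ((Nat.prime_dvd_prime_iff_eq hp.out Nat.prime_two).mp
          (hp.out.dvd_of_dvd_pow this))
    haveI : IsCyclic (PN : Subgroup N) := isCyclic_of_injective ψ hψ
    obtain ⟨u, hu⟩ := IsCyclic.exists_ofOrder_eq_natCard (α := (PN : Subgroup N))
    apply hnotgen ((u : N) : PS F)
    rw [Subgroup.orderOf_coe, Subgroup.orderOf_coe, hu, hPNc]
  · exfalso
    rw [Nat.card_congr e.toEquiv, nat_card_alternatingGroup, Nat.card_fin] at hdvd8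
    revert hdvd8
    decide
  · exfalso
    -- too many elements with fourth power one
    have h16 : 16 ≤ Nat.card {c : N // c ^ 4 = 1} := by
      have e' : {c : N // c ^ 4 = 1} ≃ {c : Equiv.Perm (Fin 4) // c ^ 4 = 1} :=
        e.toEquiv.subtypeEquiv fun c => by
          show c ^ 4 = 1 ↔ (e c) ^ 4 = 1
          rw [← map_pow, e.map_eq_one_iff]
      rw [Nat.card_congr e', Nat.card_eq_fintype_card]
      decide +kernel
    have h8' : Nat.card (PN : Subgroup N) ≤ 8 := by
      have hd : Nat.card (PN : Subgroup N) ∣ 24 := by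
        have h := Subgroup.card_subgroup_dvd_card (PN : Subgroup N)
        rwa [Nat.card_congr e.toEquiv, Nat.card_perm, Nat.card_fin] at h
      rw [hPNc] at hd ⊢
      have : v ≤ 3 := by
        by_contra h
        exact absurd ((Nat.pow_dvd_pow 2 (show 4 ≤ v by omega)).trans hd) (by decide)
      exact le_trans (Nat.pow_le_pow_right two_pos this) le_rfl
    have : Nat.card {c : N // c ^ 4 = 1} ≤ Nat.card (PN : Subgroup N) :=
      Nat.card_le_card_of_injective (fun c => (⟨c.1, h2el c.1 ⟨2, c.2⟩⟩ : (PN : Subgroup N)))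
        (fun a b h => Subtype.ext (congrArg (fun u : (PN : Subgroup N) => (u : N)) h))
    omega
  · exfalso
    rw [Nat.card_congr e.toEquiv, nat_card_alternatingGroup, Nat.card_fin] at hdvd8
    revert hdvd8
    decide
  · letI := Fintype.ofFinite E
    haveI : CharP E p := (RingHom.charP_iff E.subtype Subtype.coe_injective p).mpr inferInstance
    have hE2 : (2 : E) ≠ 0 := fun h => h2 (congrArg Subtype.val h)
    rcases hE with ⟨⟨e⟩⟩ | ⟨-, ⟨e⟩⟩
    · exfalso
      have hsq : ∀ b : E, aff (-1 : Eˣ) b * aff (-1 : Eˣ) b = 1 := by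
        intro b
        rw [aff_mul, ← aff_one_zero]
        congr 1
        · simp
        · simp
      have hinv : ∀ b : E, e.symm (aff (-1) b) ∈ (PN : Subgroup N) := fun b =>
        h2el _ ⟨1, by rw [pow_one, ← map_pow, pow_two, hsq, map_one]⟩
      have h := (PN : Subgroup N).mul_mem (hinv 1) (hinv 0)
      rw [← map_mul, aff_mul] at h
      obtain ⟨m, hm⟩ := PN.isPGroup' ⟨_, h⟩
      have hm' := congrArg e (congrArg Subtype.val hm)
      simp only [SubmonoidClass.coe_pow, map_pow, MulEquiv.apply_symm_apply, OneMemClass.coe_one,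
        map_one, neg_mul_neg, one_mul, Units.val_neg, Units.val_one, mul_zero, zero_add] at hm'
      rw [aff_translation_pow, ← aff_one_zero] at hm'
      have h0 := (aff_injective hm').2
      simp only [mul_one, Nat.cast_pow, Nat.cast_ofNat] at h0
      exact pow_ne_zero m hE2 h0
    · intro c
      exfalso
      have hodd := odd_card (F := E) hE2
      have h1 : 1 < Fintype.card E := Fintype.one_lt_card
      rcases (show Fintype.card E = 3 ∨ 4 ≤ Fintype.card E by omega) with h3 | h4
      · have h := card_PS (F := E) hE2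
        rw [h3, ← Nat.card_congr e.toEquiv] at h
        omega
      · haveI := CfsgLib.Linear.isSimpleGroup_PSL_fin (F := E) 2 le_rfl
          (fun _ => by rw [Nat.card_eq_fintype_card]; exact h4)
        exact hsimple e.isSimpleGroup (noncomm_transfer ⟨e⟩ (noncomm_PS E))

include p in
/-- Odd index subgroups of `PSL₂(q)`, `q` odd, are pronormal. -/
theorem isPronormal_two (h2 : (2 : F) ≠ 0) (H : Subgroup (PS F)) (hH : Odd H.index) :
    Cfsg.IsPronormal H := by
  by_cases h8 : 8 ∣ Nat.card (PS F)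
  · haveI : Fact (Nat.Prime 2) := ⟨Nat.prime_two⟩
    obtain ⟨P, hP⟩ := CfsgLib.SymTwo.exists_sylow_le_of_not_dvd_index (p := 2) H
      (by rw [← even_iff_two_dvd, Nat.not_even_iff_odd]; exact hH)
    refine pronormal_of_normalizer_conj P H hP fun n hn => ?_
    exact ⟨n, Subgroup.mem_sup_left (hP (sylow_self_normalizing_two p h2 h8 P hn)), rfl⟩
  · exact pronormal_klein p h2 h8 H hH

end CfsgLib.PronormalPSL
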